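import Mathlib

/-!
# Products of two conjugates of an element of a Levi subgroup

For a group with an exact product `V H U` meeting every conjugacy class and two minimal Levi
subgroups, every nontrivial element is conjugate to a product `q * s * r` with `q`, `r` in the
unipotent radicals and `s` in one chosen Levi subgroup, with prescribed central part.
-/

set_option autoImplicit false
set_option linter.unusedSectionVars false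

namespace CfsgLib.Lie.GaussSquare

/-- two minimal Levi subgroups inside an exact product `V H U` -/
structure Datum (G : Type*) [Group G] (ι : Type*) where
  U : Subgroup G
  H : Subgroup G
  n0 : G
  n : ι → G
  X : ι → Subgroup G
  R : ι → Subgroup G
  Hc : ι → Subgroup G
  k0 : ι
  k1 : ι
  cases : ∀ k, k = k0 ∨ k = k1
  hcover : ∀ g : G, ∃ c, ∃ v ∈ U, ∃ h ∈ H, ∃ u ∈ U, c * g * c⁻¹ = n0 * v * n0⁻¹ * h * u
  uniq : ∀ v ∈ U, ∀ h ∈ H, ∀ u ∈ U, n0 * v * n0⁻¹ * h * u = 1 → v = 1 ∧ h = 1 ∧ u = 1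
  H_comm : ∀ a ∈ H, ∀ b ∈ H, a * b = b * a
  H_U : ∀ h ∈ H, ∀ u ∈ U, h * u * h⁻¹ ∈ U
  H_n0 : ∀ h ∈ H, n0⁻¹ * h * n0 ∈ H
  H_n : ∀ k, ∀ h ∈ H, n k * h * (n k)⁻¹ ∈ H
  n_sq : ∀ k, n k * n k ∈ H
  H_X : ∀ k, ∀ h ∈ H, ∀ x ∈ X k, h * x * h⁻¹ ∈ X k
  H_R : ∀ k, ∀ h ∈ H, ∀ r ∈ R k, h * r * h⁻¹ ∈ R k
  X_le : ∀ k, X k ≤ U
  R_le : ∀ k, R k ≤ U
  U_split : ∀ k, ∀ u ∈ U, ∃ x ∈ X k, ∃ r ∈ R k, u = x * r
  V_split : ∀ k, ∀ u ∈ U, ∃ r ∈ R k, ∃ x ∈ X k, n0 * u * n0⁻¹ = n0 * r * n0⁻¹ * (n k * x * (n k)⁻¹)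
  X_opp : ∀ k, ∀ x ∈ X k, ∃ u ∈ U, n k * x * (n k)⁻¹ = n0 * u * n0⁻¹
  n_mem : ∀ k, n k ∈ X k ⊔ (X k).map (MulAut.conj (n k)).toMonoidHom
  L_decomp : ∀ k, ∀ g ∈ X k ⊔ (X k).map (MulAut.conj (n k)).toMonoidHom,
    (∃ x ∈ X k, ∃ h ∈ H, g = x * h) ∨ ∃ x ∈ X k, ∃ h ∈ H, ∃ x' ∈ X k, g = x * h * n k * x'
  L_R : ∀ k, ∀ l ∈ X k ⊔ (X k).map (MulAut.conj (n k)).toMonoidHom, ∀ r ∈ R k, l * r * l⁻¹ ∈ R k
  L_Q : ∀ k, ∀ l ∈ X k ⊔ (X k).map (MulAut.conj (n k)).toMonoidHom, ∀ r ∈ R k,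
    ∃ r' ∈ R k, l * (n0 * r * n0⁻¹) * l⁻¹ = n0 * r' * n0⁻¹
  X_regular : ∀ k, ∀ x ∈ X k, (∀ h ∈ H, h * x = x * h) → x = 1
  X_ne : ∀ k, ∃ x ∈ X k, x ≠ 1
  Hc_le : ∀ k, Hc k ≤ H
  Hc_inv : ∀ k, ∀ a ∈ Hc k, n k * a * (n k)⁻¹ = a⁻¹
  Hc_odd : ∀ k, Odd (Nat.card (Hc k))
  S_H : ∀ k, ∀ h ∈ H, h ∈ X k ⊔ (X k).map (MulAut.conj (n k)).toMonoidHom → h ∈ Hc k
  H_split : ∀ h ∈ H, ∃ a ∈ Hc k0, ∃ b ∈ Hc k1, h = a * b
  Hc_inf : ∀ a ∈ Hc k0, a ∈ Hc k1 → a = 1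
  Hc0_ne : ∃ a ∈ Hc k0, a ≠ 1
  Hc1_three : ∃ a ∈ Hc k1, ∃ b ∈ Hc k1, a ≠ 1 ∧ b ≠ 1 ∧ a ≠ b
  Hc0_faith : ∀ a ∈ Hc k0, (∀ x ∈ X k1, a * x = x * a) → a = 1
  Hc1_faith : ∀ a ∈ Hc k1, (∀ x ∈ X k0, a * x = x * a) → a = 1
  H_faith : ∀ h ∈ H, (∀ k, ∀ x ∈ X k, h * x = x * h) → h = 1
  n0_word : ∃ l : List ι, n0 = (l.map n).prod

namespace Datum

variable {G : Type*} [Group G] [Finite G] {ι : Type*} (D : Datum G ι)

/-- the derived part of a Levi subgroup -/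
def S (k : ι) : Subgroup G := D.X k ⊔ (D.X k).map (MulAut.conj (D.n k)).toMonoidHom

theorem X_S {k : ι} {x : G} (hx : x ∈ D.X k) : x ∈ D.S k := Subgroup.mem_sup_left hx

theorem Y_S {k : ι} {x : G} (hx : x ∈ D.X k) : D.n k * x * (D.n k)⁻¹ ∈ D.S k :=
  Subgroup.mem_sup_right ⟨x, hx, rfl⟩

theorem H_n' {k : ι} {h : G} (hh : h ∈ D.H) : (D.n k)⁻¹ * h * D.n k = D.n k * h * (D.n k)⁻¹ := by
  have e := D.H_comm _ hh _ (D.n_sq k)
  calc (D.n k)⁻¹ * h * D.n k = (D.n k)⁻¹ * (h * (D.n k * D.n k)) * (D.n k)⁻¹ := by group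
    _ = _ := by rw [e]; group

theorem H_S {k : ι} {h : G} (hh : h ∈ D.H) {l : G} (hl : l ∈ D.S k) : h * l * h⁻¹ ∈ D.S k := by
  have hle : D.S k ≤ (D.S k).comap (MulAut.conj h).toMonoidHom := by
    refine sup_le (fun x hx => D.X_S (D.H_X k h hh x hx)) ?_
    rintro _ ⟨x, hx, rfl⟩
    have h' : (D.n k)⁻¹ * h * D.n k ∈ D.H := by rw [D.H_n' hh]; exact D.H_n k h hh
    show h * (D.n k * x * (D.n k)⁻¹) * h⁻¹ ∈ D.S k
    rw [show h * (D.n k * x * (D.n k)⁻¹) * h⁻¹ = D.n k * (((D.n k)⁻¹ * h * D.n k) * x *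
      ((D.n k)⁻¹ * h * D.n k)⁻¹) * (D.n k)⁻¹ by group]
    exact D.Y_S (D.H_X k _ h' x hx)
  exact hle hl

theorem H_V {h : G} (hh : h ∈ D.H) {v : G} (hv : v ∈ D.U) :
    ∃ v' ∈ D.U, h * (D.n0 * v * D.n0⁻¹) * h⁻¹ = D.n0 * v' * D.n0⁻¹ :=
  ⟨_, D.H_U _ (D.H_n0 h hh) v hv, by group⟩

theorem VHU_inj {v v' h h' u u' : G} (hv : v ∈ D.U) (hv' : v' ∈ D.U) (hh : h ∈ D.H) (hh' : h' ∈ D.H)
    (hu : u ∈ D.U) (hu' : u' ∈ D.U)
    (e : D.n0 * v * D.n0⁻¹ * h * u = D.n0 * v' * D.n0⁻¹ * h' * u') : v = v' ∧ h = h' ∧ u = u' := by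
  obtain ⟨w, hw, ew⟩ := D.H_U h' hh' _ (mul_mem hu (inv_mem hu')) |> fun hw => (⟨_, hw, rfl⟩ :
    ∃ w ∈ D.U, w = h' * (u * u'⁻¹) * h'⁻¹)
  obtain ⟨e1, e2, e3⟩ := D.uniq (v'⁻¹ * v) (mul_mem (inv_mem hv') hv) (h * h'⁻¹)
    (mul_mem hh (inv_mem hh')) w hw (by
      rw [ew]
      calc D.n0 * (v'⁻¹ * v) * D.n0⁻¹ * (h * h'⁻¹) * (h' * (u * u'⁻¹) * h'⁻¹)
          = (D.n0 * v' * D.n0⁻¹)⁻¹ * (D.n0 * v * D.n0⁻¹ * h * u) * u'⁻¹ * h'⁻¹ := by group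
        _ = 1 := by rw [e]; group)
  rw [ew, conj_eq_one_iff, mul_inv_eq_one] at e3
  exact ⟨(inv_mul_eq_one.1 e1).symm, mul_inv_eq_one.1 e2, e3⟩

theorem YHX_inj {k : ι} {x₁ x₂ y₁ y₂ h₁ h₂ : G} (hx₁ : x₁ ∈ D.X k) (hx₂ : x₂ ∈ D.X k) (hy₁ : y₁ ∈ D.X k)
    (hy₂ : y₂ ∈ D.X k) (hh₁ : h₁ ∈ D.H) (hh₂ : h₂ ∈ D.H)
    (e : D.n k * y₁ * (D.n k)⁻¹ * h₁ * x₁ = D.n k * y₂ * (D.n k)⁻¹ * h₂ * x₂) :
    y₁ = y₂ ∧ h₁ = h₂ ∧ x₁ = x₂ := by
  obtain ⟨u₁, hu₁, e₁⟩ := D.X_opp k y₁ hy₁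
  obtain ⟨u₂, hu₂, e₂⟩ := D.X_opp k y₂ hy₂
  rw [e₁, e₂] at e
  obtain ⟨f1, f2, f3⟩ := D.VHU_inj hu₁ hu₂ hh₁ hh₂ (D.X_le k hx₁) (D.X_le k hx₂) e
  refine ⟨?_, f2, f3⟩
  rw [f1, ← e₂] at e₁
  simpa using e₁

/-- central in a Levi subgroup -/
def Cen (k : ι) (s : G) : Prop := (∀ t ∈ D.H, t * s = s * t) ∧ ∀ l ∈ D.S k, l * s = s * l

theorem Cen.of_torus {k : ι} {h : G} (hh : h ∈ D.H) (hl : ∀ l ∈ D.S k, l * h = h * l) : D.Cen k h :=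
  ⟨fun t ht => D.H_comm t ht h hh, hl⟩

/-- a central product is a torus element -/
theorem Cen.eq {k : ι} {x y h : G} (hx : x ∈ D.X k) (hy : y ∈ D.X k) (hh : h ∈ D.H)
    (hs : D.Cen k (D.n k * y * (D.n k)⁻¹ * h * x)) : y = 1 ∧ x = 1 ∧ D.Cen k h := by
  have key : ∀ t ∈ D.H, t * x = x * t ∧ (D.n k)⁻¹ * t * D.n k * y = y * ((D.n k)⁻¹ * t * D.n k) := by
    intro t ht
    set t' := (D.n k)⁻¹ * t * D.n k with ht'
    have ht'H : t' ∈ D.H := by rw [ht', D.H_n' ht]; exact D.H_n k t ht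
    have e : D.n k * (t' * y * t'⁻¹) * (D.n k)⁻¹ * h * (t * x * t⁻¹) =
        D.n k * y * (D.n k)⁻¹ * h * x := by
      have e1 := hs.1 t ht
      have e2 := D.H_comm t ht h hh
      calc D.n k * (t' * y * t'⁻¹) * (D.n k)⁻¹ * h * (t * x * t⁻¹)
          = t * (D.n k * y * (D.n k)⁻¹) * t⁻¹ * (h * t) * x * t⁻¹ := by rw [ht']; group
        _ = t * (D.n k * y * (D.n k)⁻¹ * h * x) * t⁻¹ := by rw [← e2]; group
        _ = _ := by rw [e1]; group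
    obtain ⟨f1, -, f3⟩ := D.YHX_inj (D.H_X k t ht x hx) hx (D.H_X k t' ht'H y hy) hy hh hh e
    exact ⟨mul_inv_eq_iff_eq_mul.1 f3, mul_inv_eq_iff_eq_mul.1 f1⟩
  have hx1 : x = 1 := D.X_regular k x hx fun t ht => (key t ht).1
  have hy1 : y = 1 := D.X_regular k y hy fun t ht => by
    have h' : D.n k * t * (D.n k)⁻¹ ∈ D.H := D.H_n k t ht
    have := (key _ h').2
    simpa [mul_assoc] using this
  subst hx1 hy1
  exact ⟨rfl, rfl, by simpa using hs⟩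

/-- conjugate into the big cell, with a Levi part that is not central -/
def Good (k : ι) (g h : G) : Prop :=
  ∃ c : G, ∃ q ∈ D.R k, ∃ y ∈ D.X k, ∃ x ∈ D.X k, ∃ r ∈ D.R k,
    c * g * c⁻¹ = D.n0 * q * D.n0⁻¹ * (D.n k * y * (D.n k)⁻¹ * h * x) * r ∧
      ¬ D.Cen k (D.n k * y * (D.n k)⁻¹ * h * x)

theorem exists_good_of {k : ι} {g c v u h : G} (hv : v ∈ D.U) (hu : u ∈ D.U) (hh : h ∈ D.H)
    (e : c * g * c⁻¹ = D.n0 * v * D.n0⁻¹ * h * u) :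
    D.Good k g h ∨ (v ∈ D.R k ∧ u ∈ D.R k ∧ D.Cen k h) := by
  obtain ⟨q, hq, y, hy, e1⟩ := D.V_split k v hv
  obtain ⟨x, hx, r, hr, e2⟩ := D.U_split k u hu
  by_cases hs : D.Cen k (D.n k * y * (D.n k)⁻¹ * h * x)
  · obtain ⟨rfl, rfl, hc⟩ := Cen.eq D hx hy hh hs
    rw [mul_one, mul_inv_cancel, mul_one] at e1
    rw [one_mul] at e2
    have : v = q := by simpa using e1
    exact Or.inr ⟨this ▸ hq, e2 ▸ hr, hc⟩
  · refine Or.inl ⟨c, q, hq, y, hy, x, hx, r, hr, ?_, hs⟩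
    rw [e, e1, e2]
    group

theorem switch {j k : ι} {g h : G} (hh : h ∈ D.H) (hg : D.Good j g h) (hc : ¬ D.Cen k h) : D.Good k g h := by
  obtain ⟨c, q, hq, y, hy, x, hx, r, hr, e, -⟩ := hg
  obtain ⟨u', hu', ey⟩ := D.X_opp j y hy
  refine (D.exists_good_of (c := c) (v := q * u') (u := x * r) (mul_mem (D.R_le j hq) hu')
    (mul_mem (D.X_le j hx) (D.R_le j hr)) hh ?_).resolve_right fun h => hc h.2.2
  rw [e, ey]
  group

/-- some Levi part is not central -/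
theorem exists_good {g : G} (hg : g ≠ 1) : ∃ k, ∃ h ∈ D.H, D.Good k g h := by
  by_contra hcon
  obtain ⟨c, v, hv, h, hh, u, hu, e⟩ := D.hcover g
  have bad : ∀ c v u : G, v ∈ D.U → u ∈ D.U → c * g * c⁻¹ = D.n0 * v * D.n0⁻¹ * h * u →
      ∀ k, v ∈ D.R k ∧ u ∈ D.R k ∧ D.Cen k h := fun c v u hv hu e k =>
    (D.exists_good_of hv hu hh e).resolve_left fun h' => hcon ⟨k, h, hh, h'⟩
  have hc := bad c v u hv hu e
  have walk : ∀ l : List ι, ∃ v' ∈ D.U, ∃ u' ∈ D.U,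
      D.n0 * v' * D.n0⁻¹ = (l.map D.n).prod * (D.n0 * v * D.n0⁻¹) * ((l.map D.n).prod)⁻¹ ∧
      u' = (l.map D.n).prod * u * ((l.map D.n).prod)⁻¹ ∧
      ∃ c', c' * g * c'⁻¹ = D.n0 * v' * D.n0⁻¹ * h * u' := by
    intro l
    induction l with
    | nil => exact ⟨v, hv, u, hu, by simp, by simp, c, e⟩
    | cons k l ih =>
      obtain ⟨v', hv', u', hu', ev, eu, c', e'⟩ := ih
      obtain ⟨hq, hr, hck⟩ := bad c' v' u' hv' hu' e' k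
      have hn : D.n k * h * (D.n k)⁻¹ = h := by rw [hck.2 _ (D.n_mem k)]; group
      obtain ⟨q, hq', eq⟩ := D.L_Q k _ (D.n_mem k) v' hq
      refine ⟨q, D.R_le k hq', D.n k * u' * (D.n k)⁻¹, D.R_le k (D.L_R k _ (D.n_mem k) u' hr), ?_, ?_,
        D.n k * c', ?_⟩
      · rw [← eq, ev, List.map_cons, List.prod_cons]; group
      · rw [eu, List.map_cons, List.prod_cons]; group
      · calc D.n k * c' * g * (D.n k * c')⁻¹ = D.n k * (c' * g * c'⁻¹) * (D.n k)⁻¹ := by group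
          _ = D.n k * (D.n0 * v' * D.n0⁻¹) * (D.n k)⁻¹ * (D.n k * h * (D.n k)⁻¹) *
              (D.n k * u' * (D.n k)⁻¹) := by rw [e']; group
          _ = _ := by rw [eq, hn]
  obtain ⟨l, hl⟩ := D.n0_word
  obtain ⟨v', hv', u', hu', ev, eu, c', -⟩ := walk l
  rw [← hl] at ev eu
  have key : ∀ a b : G, a ∈ D.U → b ∈ D.U → b = D.n0 * a * D.n0⁻¹ → a = 1 := fun a b ha hb eab => by
    have := D.VHU_inj ha (one_mem _) (one_mem _) (one_mem _) (one_mem _) hb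
      (show D.n0 * a * D.n0⁻¹ * 1 * 1 = D.n0 * 1 * D.n0⁻¹ * 1 * b by simp [eab])
    exact this.1
  have hu1 : u = 1 := key u u' hu hu' eu
  have hv1 : v = 1 := key v v' hv hv' (by simpa using ev)
  subst hu1 hv1
  have hh1 : h = 1 := D.H_faith h hh fun k x hx => ((hc k).2.2.2 x (D.X_S hx)).symm
  subst hh1
  refine hg ?_
  simpa using e

/-- conjugates of a noncentral element of a Levi subgroup -/
theorem levi_conj {k : ι} {x y h : G} (hx : x ∈ D.X k) (hy : y ∈ D.X k) (hh : h ∈ D.H)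
    (hs : ¬ D.Cen k (D.n k * y * (D.n k)⁻¹ * h * x)) {a : G} (ha : a ∈ D.Hc k) :
    ∃ l ∈ D.S k, ∃ y' ∈ D.X k, ∃ x' ∈ D.X k,
      l * (D.n k * y * (D.n k)⁻¹ * h * x) * l⁻¹ = D.n k * y' * (D.n k)⁻¹ * (h * a) * x' := by
  set n := D.n k with hn
  set s := n * y * n⁻¹ * h * x with hsdef
  have hnS : n ∈ D.S k := D.n_mem k
  have hform : ∀ l ∈ D.S k, ∃ m ∈ D.S k, l * s * l⁻¹ = h * m := fun l hl => by
    refine ⟨(h⁻¹ * l * h) * ((h⁻¹ * (n * y * n⁻¹) * h) * x) * l⁻¹,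
      mul_mem (mul_mem ?_ (mul_mem ?_ (D.X_S hx))) (inv_mem hl), by rw [hsdef]; group⟩
    · simpa using D.H_S (inv_mem hh) hl
    · simpa using D.H_S (inv_mem hh) (D.Y_S hy)
  -- a conjugate outside the Borel subgroup
  obtain ⟨l, hl, t, ht, x1, hx1, el⟩ : ∃ l ∈ D.S k, ∃ t ∈ D.H, ∃ x1 ∈ D.X k, l * s * l⁻¹ = n * t * x1 := by
    by_contra hcon
    have inB : ∀ l ∈ D.S k, ∃ t ∈ D.H, ∃ x1 ∈ D.X k, l * s * l⁻¹ = t * x1 := by
      intro l hl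
      obtain ⟨m, hm, em⟩ := hform l hl
      rcases D.L_decomp k m hm with ⟨x1, hx1, t, ht, e⟩ | ⟨x1, hx1, t, ht, x2, hx2, e⟩
      · refine ⟨h * t, mul_mem hh ht, t⁻¹ * x1 * t, ?_, by rw [em, e]; group⟩
        simpa using D.H_X k _ (inv_mem ht) x1 hx1
      · exfalso
        have hx1' := D.H_X k h hh x1 hx1
        refine hcon ⟨(h * x1 * h⁻¹)⁻¹ * l, mul_mem (inv_mem (D.X_S hx1')) hl, n⁻¹ * (h * t) * n,
          by rw [D.H_n' (mul_mem hh ht)]; exact D.H_n k _ (mul_mem hh ht), x2 * (h * x1 * h⁻¹),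
          mul_mem hx2 hx1', ?_⟩
        calc (h * x1 * h⁻¹)⁻¹ * l * s * ((h * x1 * h⁻¹)⁻¹ * l)⁻¹
            = (h * x1 * h⁻¹)⁻¹ * (l * s * l⁻¹) * (h * x1 * h⁻¹) := by group
          _ = n * (n⁻¹ * (h * t) * n) * (x2 * (h * x1 * h⁻¹)) := by rw [em, e, hn]; group
    have inH : ∀ l ∈ D.S k, l * s * l⁻¹ ∈ D.H := by
      intro l hl
      obtain ⟨t, ht, x1, hx1, e⟩ := inB l hl
      obtain ⟨t', ht', x1', hx1', e'⟩ := inB (n⁻¹ * l) (mul_mem (inv_mem hnS) hl)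
      have hT : n * t' * n⁻¹ ∈ D.H := D.H_n k t' ht'
      have e2 : D.n k * (t' * x1' * t'⁻¹) * (D.n k)⁻¹ * (n * t' * n⁻¹) * 1 = D.n k * 1 * (D.n k)⁻¹ * t * x1 := by
        calc D.n k * (t' * x1' * t'⁻¹) * (D.n k)⁻¹ * (n * t' * n⁻¹) * 1 = n * (t' * x1') * n⁻¹ := by
              rw [hn]; group
          _ = n * (n⁻¹ * l * s * (n⁻¹ * l)⁻¹) * n⁻¹ := by rw [e']
          _ = l * s * l⁻¹ := by group
          _ = _ := by rw [e]; group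
      obtain ⟨-, -, f3⟩ := D.YHX_inj (one_mem _) hx1 (D.H_X k t' ht' x1' hx1') (one_mem _) hT ht e2
      rw [e, ← f3, mul_one]
      exact ht
    have comX : ∀ l ∈ D.S k, ∀ z ∈ D.X k, z * (l * s * l⁻¹) = (l * s * l⁻¹) * z := by
      intro l hl z hz
      set p := l * s * l⁻¹ with hp
      have h1 := inH l hl
      have h2 : z * p * z⁻¹ ∈ D.H := by
        have := inH (z * l) (mul_mem (D.X_S hz) hl)
        rwa [show z * l * s * (z * l)⁻¹ = z * p * z⁻¹ by rw [hp]; group] at this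
      have e2 : D.n k * 1 * (D.n k)⁻¹ * p * (p⁻¹ * z * p * z⁻¹) = D.n k * 1 * (D.n k)⁻¹ * (z * p * z⁻¹) * 1 := by
        group
      obtain ⟨-, -, f3⟩ := D.YHX_inj (mul_mem (by
          have h3 := D.H_X k p⁻¹ (inv_mem h1) z hz
          rwa [inv_inv] at h3) (inv_mem hz))
        (one_mem _) (one_mem _) (one_mem _) h1 h2 e2
      rw [mul_inv_eq_one, mul_assoc, inv_mul_eq_iff_eq_mul] at f3
      exact f3
    refine hs ⟨fun t ht => D.H_comm t ht s (by simpa using inH 1 (one_mem _)), ?_⟩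
    intro l hl
    have hle : D.S k ≤ Subgroup.centralizer {s} := by
      refine sup_le (fun z hz => Subgroup.mem_centralizer_singleton_iff.2 ?_) ?_
      · simpa using (comX 1 (one_mem _) z hz)
      · rintro _ ⟨z, hz, rfl⟩
        refine Subgroup.mem_centralizer_singleton_iff.2 ?_
        show n * z * n⁻¹ * s = s * (n * z * n⁻¹)
        have e3 := comX n⁻¹ (inv_mem hnS) z hz
        calc n * z * n⁻¹ * s = n * (z * (n⁻¹ * s * n⁻¹⁻¹)) * n⁻¹ := by group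
          _ = n * (n⁻¹ * s * n⁻¹⁻¹ * z) * n⁻¹ := by rw [e3]
          _ = s * (n * z * n⁻¹) := by group
    exact Subgroup.mem_centralizer_singleton_iff.1 (hle hl)
  -- the move
  have move : ∀ z y1 d y2 : G, z ∈ D.X k → y1 ∈ D.X k → d ∈ D.H → y2 ∈ D.X k →
      z = n * y1 * n⁻¹ * d * n * (n * y2 * n⁻¹) →
      ∃ l' ∈ D.S k, ∃ x' ∈ D.X k,
        l' * s * l'⁻¹ = n * y1 * n⁻¹ * (d * (n * n) * t) * x' := by
    intro z y1 d y2 hz hy1 hd hy2 ez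
    have hnn : n * n ∈ D.H := D.n_sq k
    have hH : d * (n * n) * t ∈ D.H := mul_mem (mul_mem hd hnn) ht
    have hx2 := D.H_X k _ (mul_mem hd hnn) y2 hy2
    refine ⟨z * l, mul_mem (D.X_S hz) hl, _, mul_mem (mul_mem
      (D.H_X k _ (inv_mem hH) _ hx2) hx1) (inv_mem hz), ?_⟩
    calc z * l * s * (z * l)⁻¹ = z * (l * s * l⁻¹) * z⁻¹ := by group
      _ = n * y1 * n⁻¹ * d * n * (n * y2 * n⁻¹) * (n * t * x1) * z⁻¹ := by rw [el, ← ez]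
      _ = n * y1 * n⁻¹ * (d * (n * n)) * y2 * t * x1 * z⁻¹ := by simp [mul_assoc]
      _ = _ := by simp [mul_assoc]
  obtain ⟨z, hz, hz1⟩ := D.X_ne k
  obtain ⟨y1, hy1, d, hd, y2, hy2, ez⟩ : ∃ y1 ∈ D.X k, ∃ d ∈ D.H, ∃ y2 ∈ D.X k,
      z = n * y1 * n⁻¹ * d * n * (n * y2 * n⁻¹) := by
    rcases D.L_decomp k _ (D.Y_S hz) with ⟨x1, hx1, d, hd, e⟩ | ⟨x1, hx1, d, hd, x2, hx2, e⟩
    · exfalso
      have hx1' : d⁻¹ * x1 * d ∈ D.X k := by simpa using D.H_X k _ (inv_mem hd) x1 hx1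
      have e2 : D.n k * z * (D.n k)⁻¹ * 1 * 1 = D.n k * 1 * (D.n k)⁻¹ * d * (d⁻¹ * x1 * d) := by
        rw [e]; group
      exact hz1 (D.YHX_inj (one_mem _) hx1' hz (one_mem _) (one_mem _) hd e2).1
    · have hsq : (n * n)⁻¹ ∈ D.H := inv_mem (D.n_sq k)
      refine ⟨(n * n)⁻¹ * x1 * (n * n), ?_, n⁻¹ * d * n, ?_, (n * n)⁻¹ * x2 * (n * n), ?_, ?_⟩
      · simpa using D.H_X k _ hsq x1 hx1
      · rw [hn, D.H_n' hd]; exact D.H_n k d hd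
      · simpa using D.H_X k _ hsq x2 hx2
      · calc z = n⁻¹ * (D.n k * z * (D.n k)⁻¹) * n := by rw [hn]; group
          _ = _ := by rw [e, hn]; group
  obtain ⟨l1, hl1, x', hx', e1⟩ := move z y1 d y2 hz hy1 hd hy2 ez
  set h1 := d * (n * n) * t with hh1def
  have hh1 : h1 ∈ D.H := mul_mem (mul_mem hd (D.n_sq k)) ht
  have hcls : h⁻¹ * h1 ∈ D.Hc k := by
    refine D.S_H k _ (mul_mem (inv_mem hh) hh1) ?_
    obtain ⟨m, hm, em⟩ := hform l1 hl1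
    rw [e1] at em
    rw [show h⁻¹ * h1 = (h⁻¹ * (n * y1 * n⁻¹) * h)⁻¹ * (h⁻¹ * (n * y1 * n⁻¹ * h1 * x')) * x'⁻¹ by group, em,
      inv_mul_cancel_left]
    change _ ∈ D.S k
    refine mul_mem (mul_mem (inv_mem ?_) hm) (inv_mem (D.X_S hx'))
    simpa using D.H_S (inv_mem hh) (D.Y_S hy1)
  obtain ⟨w, hw, ew⟩ : ∃ w ∈ D.Hc k, w * w = (h⁻¹ * h1)⁻¹ * a := by
    obtain ⟨j, hj⟩ := D.Hc_odd k
    refine ⟨((h⁻¹ * h1)⁻¹ * a) ^ (j + 1), pow_mem (mul_mem (inv_mem hcls) ha) _, ?_⟩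
    have := congrArg Subtype.val
      (pow_card_eq_one' (G := D.Hc k) (x := ⟨_, mul_mem (inv_mem hcls) ha⟩))
    simp only [SubmonoidClass.coe_pow, OneMemClass.coe_one, hj] at this
    rw [← pow_add, show j + 1 + (j + 1) = 2 * j + 1 + 1 by omega, pow_succ, this, one_mul]
  have hwH := D.Hc_le k hw
  have hinv : n * w * n⁻¹ = w⁻¹ := D.Hc_inv k w hw
  have hc1 : n⁻¹ * w * n = w⁻¹ := by rw [hn, D.H_n' hwH]; exact hinv
  have ez' : w * z * w⁻¹ = n * (w⁻¹ * y1 * w) * n⁻¹ * (w * d * w) * n * (n * (w⁻¹ * y2 * w) * n⁻¹) := by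
    have i1 : n⁻¹ * w = w⁻¹ * n⁻¹ := by rw [← hc1]; group
    have i2 : w * n = n * w⁻¹ := by rw [← hc1]; group
    have i3 : n * w = w⁻¹ * n := by rw [← hinv]; group
    have i4 : n * w⁻¹ = w * n := i2.symm
    calc w * z * w⁻¹ = (w * n) * y1 * n⁻¹ * d * n * n * y2 * (n⁻¹ * w⁻¹) := by rw [ez]; group
      _ = n * w⁻¹ * y1 * n⁻¹ * d * n * n * y2 * (n⁻¹ * w⁻¹) := by rw [i2]
      _ = n * (w⁻¹ * y1 * w) * (w⁻¹ * n⁻¹) * d * n * (n * y2) * (n⁻¹ * w⁻¹) := by group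
      _ = n * (w⁻¹ * y1 * w) * (n⁻¹ * w) * d * n * (n * y2) * (n⁻¹ * w⁻¹) := by rw [i1]
      _ = n * (w⁻¹ * y1 * w) * n⁻¹ * (w * d * w) * (w⁻¹ * n) * (n * y2) * (n⁻¹ * w⁻¹) := by group
      _ = n * (w⁻¹ * y1 * w) * n⁻¹ * (w * d * w) * (n * w) * (n * y2) * (n⁻¹ * w⁻¹) := by rw [i3]
      _ = n * (w⁻¹ * y1 * w) * n⁻¹ * (w * d * w) * n * (w * n) * y2 * (n⁻¹ * w⁻¹) := by group
      _ = _ := by
        rw [i2, show n⁻¹ * w⁻¹ = w * n⁻¹ by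
          rw [show w * n⁻¹ = n⁻¹ * (n * w * n⁻¹) by group, hinv]]
        group
  have hyw : ∀ y' ∈ D.X k, w⁻¹ * y' * w ∈ D.X k := fun y' hy' => by
    simpa using D.H_X k _ (inv_mem hwH) y' hy'
  obtain ⟨l2, hl2, x2, hx2, e2⟩ := move (w * z * w⁻¹) _ _ _ (D.H_X k w hwH z hz) (hyw y1 hy1)
    (mul_mem (mul_mem hwH hd) hwH) (hyw y2 hy2) ez'
  refine ⟨l2, hl2, _, hyw y1 hy1, x2, hx2, ?_⟩
  rw [e2]
  congr 2
  have c0 : n * n ∈ D.H := D.n_sq k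
  have c1 := D.H_comm _ (mul_mem hd c0) _ hwH
  calc w * d * w * (n * n) * t = w * (d * (n * n)) * (w * t) := by
        rw [show w * d * w * (n * n) * t = w * d * (w * (n * n)) * t by group,
          D.H_comm w hwH _ c0]
        group
    _ = (w * w) * (d * (n * n) * t) := by
        rw [show w * (d * (n * n)) * (w * t) = w * (d * (n * n) * w) * t by group, c1]
        group
    _ = h * a := by
        rw [← hh1def, ew, show (h⁻¹ * h1)⁻¹ * a * h1 = h1⁻¹ * (h * a) * h1 by group, mul_assoc,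
          D.H_comm _ (mul_mem hh (D.Hc_le k ha)) _ hh1, inv_mul_cancel_left]

theorem not_cen_conj {k : ι} {s l : G} (hl : l ∈ D.S k) (hs : ¬ D.Cen k s) : ¬ D.Cen k (l * s * l⁻¹) := by
  intro h
  have e : s = l * s * l⁻¹ := by
    have := h.2 l⁻¹ (inv_mem hl)
    calc s = l⁻¹ * (l * s * l⁻¹) * l := by group
      _ = _ := by rw [this]; group
  exact hs (e ▸ h)

/-- the torus part moves along its coroot line -/
theorem Good.move {k : ι} {g h a : G} (hh : h ∈ D.H) (hg : D.Good k g h) (ha : a ∈ D.Hc k) :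
    D.Good k g (h * a) := by
  obtain ⟨c, q, hq, y, hy, x, hx, r, hr, e, hs⟩ := hg
  obtain ⟨l, hl, y', hy', x', hx', el⟩ := D.levi_conj hx hy hh hs ha
  obtain ⟨q', hq', eq⟩ := D.L_Q k l hl q hq
  refine ⟨l * c, q', hq', y', hy', x', hx', l * r * l⁻¹, D.L_R k l hl r hr, ?_, el ▸ D.not_cen_conj hl hs⟩
  rw [← el, ← eq]
  calc l * c * g * (l * c)⁻¹ = l * (c * g * c⁻¹) * l⁻¹ := by group
    _ = _ := by rw [e]; group

theorem cen_inj {j k : ι} (hf : ∀ a ∈ D.Hc j, (∀ x ∈ D.X k, a * x = x * a) → a = 1) {h a b : G}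
    (ha : a ∈ D.Hc j) (hb : b ∈ D.Hc j) (h1 : D.Cen k (h * a)) (h2 : D.Cen k (h * b)) :
    a = b := by
  refine inv_mul_eq_one.1 (hf _ (mul_mem (inv_mem ha) hb) fun x hx => ?_)
  have e1 := h1.2 x (D.X_S hx)
  have e2 := h2.2 x (D.X_S hx)
  calc a⁻¹ * b * x = (h * a)⁻¹ * (h * b * x) := by group
    _ = (h * a)⁻¹ * (x * (h * a)) * ((h * a)⁻¹ * (h * b)) := by rw [← e2]; group
    _ = x * (a⁻¹ * b) := by rw [e1]; group

theorem Hc_cen {k : ι} {a : G} (ha : a ∈ D.Hc k) (hc : D.Cen k a) : a = 1 := by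
  have h1 : a = a⁻¹ := by
    rw [← D.Hc_inv k a ha, hc.2 _ (D.n_mem k), mul_inv_cancel_right]
  obtain ⟨j, hj⟩ := D.Hc_odd k
  have h2 : a * a = 1 := by nth_rewrite 2 [h1]; exact mul_inv_cancel a
  have := congrArg Subtype.val (pow_card_eq_one' (G := D.Hc k) (x := ⟨a, ha⟩))
  simpa [hj, pow_succ, pow_mul, pow_two, h2] using this

/-- the central part in the chosen Levi subgroup can be prescribed -/
theorem good_at {g z : G} (hg : g ≠ 1) (hzH : z ∈ D.H) (hz : D.Cen D.k1 z) : D.Good D.k1 g z := by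
  obtain ⟨h, hh, hg1⟩ : ∃ h ∈ D.H, D.Good D.k1 g h := by
    obtain ⟨k, h, hh, hk⟩ := D.exists_good hg
    rcases D.cases k with rfl | rfl
    · obtain ⟨a, ha, ha1⟩ := D.Hc0_ne
      by_cases hc : D.Cen D.k1 h
      · refine ⟨h * a, mul_mem hh (D.Hc_le _ ha), D.switch (mul_mem hh (D.Hc_le _ ha)) (hk.move D hh ha)
          fun hc' => ha1 (D.cen_inj D.Hc0_faith (h := h) ha (one_mem _) hc' (by rwa [mul_one]))⟩
      · exact ⟨h, hh, D.switch hh hk hc⟩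
    · exact ⟨h, hh, hk⟩
  obtain ⟨b, hb, hb1, hb2⟩ : ∃ b ∈ D.Hc D.k1, ¬ D.Cen D.k0 (h * b) ∧ (h * b)⁻¹ * z ∉ D.Hc D.k0 := by
    obtain ⟨a, ha, b, hb, ha1, hb1, hab⟩ := D.Hc1_three
    by_contra hcon
    have key : ∀ b ∈ D.Hc D.k1, D.Cen D.k0 (h * b) ∨ (h * b)⁻¹ * z ∈ D.Hc D.k0 := fun b hb => by
      by_contra hb'
      exact hcon ⟨b, hb, fun hh => hb' (Or.inl hh), fun hh => hb' (Or.inr hh)⟩
    have u1 : ∀ x ∈ D.Hc D.k1, ∀ y ∈ D.Hc D.k1, D.Cen D.k0 (h * x) → D.Cen D.k0 (h * y) → x = y :=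
      fun x hx y hy => D.cen_inj D.Hc1_faith hx hy
    have u2 : ∀ x ∈ D.Hc D.k1, ∀ y ∈ D.Hc D.k1, (h * x)⁻¹ * z ∈ D.Hc D.k0 →
        (h * y)⁻¹ * z ∈ D.Hc D.k0 → x = y := fun x hx y hy p1 p2 => by
      have := mul_mem p1 (inv_mem p2)
      rw [show (h * x)⁻¹ * z * ((h * y)⁻¹ * z)⁻¹ = x⁻¹ * y by group] at this
      exact inv_mul_eq_one.1 (D.Hc_inf _ this (mul_mem (inv_mem hx) hy))
    rcases key 1 (one_mem _) with p | p <;> rcases key a ha with p' | p' <;> rcases key b hb with p'' | p''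
    all_goals first
      | exact ha1 (u1 a ha 1 (one_mem _) p' p)
      | exact hb1 (u1 b hb 1 (one_mem _) p'' p)
      | exact hab (u1 a ha b hb p' p'')
      | exact ha1 (u2 a ha 1 (one_mem _) p' p)
      | exact hb1 (u2 b hb 1 (one_mem _) p'' p)
      | exact hab (u2 a ha b hb p' p'')
  have hhb : h * b ∈ D.H := mul_mem hh (D.Hc_le _ hb)
  have hg0 : D.Good D.k0 g (h * b) := D.switch hhb (hg1.move D hh hb) hb1
  obtain ⟨a0, ha0, a1, ha1, e⟩ := D.H_split _ (mul_mem (inv_mem hhb) hzH)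
  have hh2 : h * b * a0 ∈ D.H := mul_mem hhb (D.Hc_le _ ha0)
  have he : h * b * a0 * a1 = z := by rw [mul_assoc, ← e, mul_inv_cancel_left]
  have hg2 : D.Good D.k1 g (h * b * a0) := by
    refine D.switch hh2 (hg0.move D hhb ha0) fun hc => ?_
    have : D.Cen D.k1 a1 := by
      refine Cen.of_torus D (D.Hc_le _ ha1) fun l hl => ?_
      calc l * a1 = (h * b * a0)⁻¹ * (h * b * a0 * l) * a1 := by group
        _ = (h * b * a0)⁻¹ * (l * z) := by rw [← hc.2 l hl, ← he]; group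
        _ = (h * b * a0)⁻¹ * (z * l) := by rw [hz.2 l hl]
        _ = _ := by rw [← he]; group
    rw [D.Hc_cen ha1 this, mul_one] at e
    exact hb2 (e ▸ ha0)
  have := hg2.move D hh2 ha1
  rwa [he] at this

/-- every nontrivial element is a product of two conjugates -/
theorem covers {σ z : G} (hσ : σ ∈ D.S D.k1) (hzH : z ∈ D.H) (hz : D.Cen D.k1 z)
    (hcop : (orderOf σ).Coprime (orderOf z)) (hoσ : Odd (orderOf σ)) (hoz : Odd (orderOf z))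
    (hR : ∀ r ∈ D.R D.k1, z * r = r * z → r = 1)
    (hQ : ∀ r ∈ D.R D.k1, z * (D.n0 * r * D.n0⁻¹) = D.n0 * r * D.n0⁻¹ * z → r = 1)
    (hS : ∀ s ∈ D.S D.k1, s ≠ 1 → ∃ a ∈ D.S D.k1, ∃ b ∈ D.S D.k1,
      s = (a * σ * a⁻¹) * (b * σ * b⁻¹)) :
    ∃ x : G, Odd (orderOf x) ∧ ∀ g : G, g ≠ 1 → ∃ u v : G, g = (u * x * u⁻¹) * (v * x * v⁻¹) := by
  have hσz : Commute σ z := hz.2 σ hσ
  refine ⟨σ * z, by rw [hσz.orderOf_mul_eq_mul_orderOf_of_coprime hcop]; exact hoσ.mul hoz, fun g hg => ?_⟩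
  set k := D.k1 with hk
  have hz2 : D.Cen k (z * z) := Cen.of_torus D (mul_mem hzH hzH) fun l hl => by
    rw [← mul_assoc, hz.2 l hl, mul_assoc, hz.2 l hl, mul_assoc]
  obtain ⟨c, q, hq, y, hy, x, hx, r, hr, e, hs⟩ := D.good_at hg (mul_mem hzH hzH) hz2
  set s1 := D.n k * y * (D.n k)⁻¹ * x with hs1def
  have hs1 : s1 ∈ D.S k := mul_mem (D.Y_S hy) (D.X_S hx)
  have hsz : D.n k * y * (D.n k)⁻¹ * (z * z) * x = s1 * (z * z) := by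
    rw [hs1def, mul_assoc, ← hz2.2 x (D.X_S hx), ← mul_assoc]
  have hne : s1 ≠ 1 := fun h1 => hs (by rw [hsz, h1, one_mul]; exact hz2)
  obtain ⟨a, ha, b, hb, eab⟩ := hS s1 hs1 hne
  set x' := a * (σ * z) * a⁻¹ with hx'
  set x'' := b * (σ * z) * b⁻¹ with hx''
  have hprod : s1 * (z * z) = x' * x'' := by
    have za : a * z * a⁻¹ = z := by rw [hz.2 a ha, mul_inv_cancel_right]
    have zb : b * z * b⁻¹ = z := by rw [hz.2 b hb, mul_inv_cancel_right]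
    have hbσ : b * σ * b⁻¹ ∈ D.S k := mul_mem (mul_mem hb hσ) (inv_mem hb)
    calc s1 * (z * z) = a * σ * a⁻¹ * ((b * σ * b⁻¹) * z) * z := by rw [eab]; group
      _ = a * σ * a⁻¹ * z * (b * σ * b⁻¹) * z := by rw [hz.2 _ hbσ]; group
      _ = (a * σ * a⁻¹) * (a * z * a⁻¹) * ((b * σ * b⁻¹) * (b * z * b⁻¹)) := by rw [za, zb]; group
      _ = _ := by rw [hx', hx'']; group
  -- fixed points
  have hfix : ∀ p : G, (σ * z) * p = p * (σ * z) → z * p = p * z := fun p hp => by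
    have h1 : Commute (σ * z) p := hp
    have h2 := h1.pow_left (orderOf σ)
    rw [hσz.mul_pow, pow_orderOf_eq_one, one_mul] at h2
    obtain ⟨j, hj⟩ := exists_pow_eq_self_of_coprime hcop
    have := h2.pow_left j
    rwa [hj] at this
  obtain ⟨p, hp, ep⟩ : ∃ p ∈ D.R k, D.n0 * q * D.n0⁻¹ * x' = (D.n0 * p * D.n0⁻¹) * x' * (D.n0 * p * D.n0⁻¹)⁻¹ := by
    have hmemS : a * σ * a⁻¹ ∈ D.S k := mul_mem (mul_mem ha hσ) (inv_mem ha)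
    have hx'n : ∀ p ∈ D.R k, ∃ p' ∈ D.R k, x' * (D.n0 * p * D.n0⁻¹) * x'⁻¹ = D.n0 * p' * D.n0⁻¹ := fun p hp => by
      obtain ⟨p1, hp1, e1⟩ := D.L_Q k a⁻¹ (inv_mem ha) p hp
      obtain ⟨p2, hp2, e2⟩ : ∃ p2 ∈ D.R k, z * (D.n0 * p1 * D.n0⁻¹) * z⁻¹ = D.n0 * p2 * D.n0⁻¹ :=
        ⟨_, D.H_R k _ (D.H_n0 z hzH) p1 hp1, by group⟩
      obtain ⟨p3, hp3, e3⟩ := D.L_Q k σ hσ p2 hp2
      obtain ⟨p4, hp4, e4⟩ := D.L_Q k a ha p3 hp3
      refine ⟨p4, hp4, ?_⟩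
      rw [← e4, ← e3, ← e2, ← e1, hx']
      group
    choose! f hf hfe using hx'n
    let F : D.R k → D.R k := fun p => ⟨p * (f p)⁻¹, mul_mem p.2 (inv_mem (hf p p.2))⟩
    have hinj : Function.Injective F := fun p p' epp => by
      have e0 : (p : G) * (f p)⁻¹ = p' * (f p')⁻¹ := congrArg Subtype.val epp
      set d := (p' : G)⁻¹ * p with hd
      have hdR : d ∈ D.R k := mul_mem (inv_mem p'.2) p.2
      have hd2 : (f p')⁻¹ * f p = d := by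
        calc (f p')⁻¹ * f p = (p' : G)⁻¹ * (p' * (f p')⁻¹) * f p := by group
          _ = _ := by rw [← e0, hd]; group
      have hcomm : x' * (D.n0 * d * D.n0⁻¹) * x'⁻¹ = D.n0 * d * D.n0⁻¹ := by
        conv_rhs => rw [← hd2]
        rw [show D.n0 * ((f p')⁻¹ * f p) * D.n0⁻¹ = (D.n0 * f p' * D.n0⁻¹)⁻¹ * (D.n0 * f p * D.n0⁻¹) by group,
          ← hfe p' p'.2, ← hfe p p.2, hd]
        group
      obtain ⟨d', hd', ed⟩ := D.L_Q k a⁻¹ (inv_mem ha) d hdR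
      have h3 : (σ * z) * (D.n0 * d' * D.n0⁻¹) = D.n0 * d' * D.n0⁻¹ * (σ * z) := by
        rw [← ed]
        calc σ * z * (a⁻¹ * (D.n0 * d * D.n0⁻¹) * a⁻¹⁻¹)
            = a⁻¹ * (x' * (D.n0 * d * D.n0⁻¹) * x'⁻¹) * x' * a := by rw [hx']; group
          _ = _ := by rw [hcomm, hx']; group
      rw [hQ d' hd' (hfix _ h3), mul_one, mul_inv_cancel, inv_inv] at ed
      have : d = 1 := by
        have h4 : D.n0 * d * D.n0⁻¹ = 1 := by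
          calc D.n0 * d * D.n0⁻¹ = a * (a⁻¹ * (D.n0 * d * D.n0⁻¹) * a) * a⁻¹ := by group
            _ = 1 := by rw [ed]; group
        rwa [conj_eq_one_iff] at h4
      exact Subtype.ext (inv_mul_eq_one.1 (hd ▸ this)).symm
    obtain ⟨p, hp⟩ := (Finite.injective_iff_surjective.1 hinj) ⟨q, hq⟩
    refine ⟨p, p.2, ?_⟩
    have ep : q = (p : G) * (f p)⁻¹ := (congrArg Subtype.val hp).symm
    rw [ep, show D.n0 * (↑p * (f ↑p)⁻¹) * D.n0⁻¹ = D.n0 * p * D.n0⁻¹ * (D.n0 * f p * D.n0⁻¹)⁻¹ by group,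
      ← hfe p p.2]
    group
  obtain ⟨p', hp', ep'⟩ : ∃ p ∈ D.R k, x'' * r = p⁻¹ * x'' * p := by
    have hx''n : ∀ p ∈ D.R k, x''⁻¹ * p * x'' ∈ D.R k := fun p hp => by
      rw [show x''⁻¹ * p * x'' = b * (z⁻¹ * (σ⁻¹ * (b⁻¹ * p * b⁻¹⁻¹) * σ⁻¹⁻¹) * z⁻¹⁻¹) * b⁻¹ by rw [hx'']; group]
      exact D.L_R k b hb _ (D.H_R k _ (inv_mem hzH) _
        (D.L_R k _ (inv_mem hσ) _ (D.L_R k _ (inv_mem hb) p hp)))
    let F : D.R k → D.R k := fun p => ⟨(x''⁻¹ * p * x'')⁻¹ * p, mul_mem (inv_mem (hx''n p p.2)) p.2⟩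
    have hinj : Function.Injective F := fun p p' epp => by
      have e0 : (x''⁻¹ * p * x'')⁻¹ * p = (x''⁻¹ * p' * x'')⁻¹ * p' := congrArg Subtype.val epp
      set d := (p : G) * (p' : G)⁻¹ with hd
      have hdR : d ∈ D.R k := mul_mem p.2 (inv_mem p'.2)
      have hd2 : x''⁻¹ * d * x'' = d := by
        calc x''⁻¹ * d * x'' = (x''⁻¹ * p * x'') * ((x''⁻¹ * p' * x'')⁻¹ * p') * (p' : G)⁻¹ := by rw [hd]; group
          _ = _ := by rw [← e0, hd]; group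
      have h3 : (σ * z) * (b⁻¹ * d * b) = b⁻¹ * d * b * (σ * z) := by
        calc σ * z * (b⁻¹ * d * b) = b⁻¹ * (x'' * (x''⁻¹ * d * x'')) * b := by rw [hd2, hx'']; group
          _ = _ := by rw [hx'']; group
      have h4 := hR _ (by simpa using D.L_R k _ (inv_mem hb) d hdR) (hfix _ h3)
      have h5 : d = 1 := by
        calc d = b * (b⁻¹ * d * b) * b⁻¹ := by group
          _ = 1 := by rw [h4]; group
      exact Subtype.ext (mul_inv_eq_one.1 h5)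
    obtain ⟨p, hp⟩ := (Finite.injective_iff_surjective.1 hinj) ⟨r, hr⟩
    refine ⟨p, p.2, ?_⟩
    rw [show r = _ from (congrArg Subtype.val hp).symm]
    show x'' * ((x''⁻¹ * ↑p * x'')⁻¹ * ↑p) = _
    group
  refine ⟨c⁻¹ * (D.n0 * p * D.n0⁻¹) * a, c⁻¹ * p'⁻¹ * b, ?_⟩
  calc g = c⁻¹ * (c * g * c⁻¹) * c := by group
    _ = c⁻¹ * ((D.n0 * q * D.n0⁻¹ * x') * (x'' * r)) * c := by rw [e, hsz, hprod]; group
    _ = _ := by rw [ep, ep', hx', hx'']; group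

end Datum

end CfsgLib.Lie.GaussSquare
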