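import Cfsg.Agent.Lib.Lie.Chev.Cent
import Cfsg.Agent.Lib.Lie.Chev.Tw.Gen

/-!
# Small facts on root elements and tori
-/

set_option autoImplicit false
set_option linter.unusedSectionVars false

namespace CfsgLib.Lie.GaussSquare

open Cfsg.Lie CfsgLib.Lie.Chev
open scoped MatrixGroups

variable {D : ChevalleyDatum} {K : Type*} [Field K] (C : Full D)

/-- conjugates of root elements by root elements stay in a root-closed set -/
theorem xu_conj_mem (P : Fin D.nroots → Prop) {a b : Fin D.nroots} (hb : P b) (hpos : D.IsPosRoot b.val)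
    (h1 : b.val ≠ a.val) (h2 : b.val ≠ D.neg a.val)
    (hT : ∀ z ∈ D.commTerms a.val b.val, ∀ h : z.1 < D.nroots, D.IsPosRoot z.1 ∧ P ⟨z.1, h⟩) (s t : K) :
    (C.G.xu a s)⁻¹ * C.G.xu b t * C.G.xu a s ∈
      Subgroup.closure {g : GL D.Idx K | ∃ r x, (D.IsPosRoot (r : Fin D.nroots).val ∧ P r) ∧ g = C.G.xu r x} := by
  set S := Subgroup.closure {g : GL D.Idx K | ∃ r x, (D.IsPosRoot (r : Fin D.nroots).val ∧ P r) ∧ g = C.G.xu r x}
  obtain ⟨W, hW, eW⟩ : ∃ W ∈ S, (W : Matrix D.Idx D.Idx K) = wordR K D (cwR D a.val b.val s t) := by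
    have hmem : ∀ l : List (ℕ × K), (∀ p ∈ l, ∀ h : p.1 < D.nroots, D.IsPosRoot p.1 ∧ P ⟨p.1, h⟩) →
        ∃ W ∈ S, (W : Matrix D.Idx D.Idx K) = wordR K D l := by
      intro l
      induction l with
      | nil => intro _; exact ⟨1, one_mem _, by simp [wordR]⟩
      | cons p l ih =>
        intro hl
        obtain ⟨W, hW, eW⟩ := ih fun q hq => hl q (List.mem_cons_of_mem _ hq)
        rw [wordR_cons]
        by_cases hp : p.1 < D.nroots
        · refine ⟨C.G.xu ⟨p.1, hp⟩ p.2 * W,
            mul_mem (Subgroup.subset_closure ⟨_, _, hl p List.mem_cons_self hp, rfl⟩) hW, ?_⟩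
          rw [Units.val_mul, eW, Good.coe_xu, xN, dif_pos hp]
        · exact ⟨W, hW, by rw [eW, xN, dif_neg hp, one_mul]⟩
    refine hmem _ fun p hp hlt => ?_
    rw [cwR, List.mem_map] at hp
    obtain ⟨c, hc, rfl⟩ := hp
    exact hT c hc hlt
  have hcomm := C.commAt a b (fun e => h1 (congrArg Fin.val e))
    (fun e => h2 ((congrArg Fin.val e).trans (C.G.negr_val a))) s t
  have e : C.G.xu b t * C.G.xu a s = C.G.xu a s * C.G.xu b t * W := Units.ext (by
    simp only [Units.val_mul, Good.coe_xu, eW]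
    exact hcomm)
  rw [mul_assoc, e, ← mul_assoc, inv_mul_cancel_left]
  exact mul_mem (Subgroup.subset_closure ⟨_, _, ⟨hpos, hb⟩, rfl⟩) hW

/-- the fixed points of an element scaling the root elements -/
theorem fixed_U {z : GL D.Idx K} (χ : Fin D.nroots → K)
    (hz : ∀ r a, z * C.G.xu r a * z⁻¹ = C.G.xu r (χ r * a)) (P : Fin D.nroots → Prop)
    (hP : ∀ r : Fin D.nroots, D.IsPosRoot r.val → ¬ P r → χ r ≠ 1) {u : GL D.Idx K}
    (hu : u ∈ D.posUnipotent K) (hc : z * u = u * z) :
    u ∈ Subgroup.closure {g : GL D.Idx K | ∃ r x, (D.IsPosRoot (r : Fin D.nroots).val ∧ P r) ∧ g = C.G.xu r x} := by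
  rw [C.G.posUnipotent_eq] at hu
  obtain ⟨t, rfl⟩ := C.exists_uprod D.nroots 0 (Nat.zero_add _) u hu
  have key : ∀ l : List (Fin D.nroots),
      z * (l.map fun r => C.G.xu r (t r)).prod * z⁻¹ = (l.map fun r => C.G.xu r (χ r * t r)).prod := by
    intro l
    induction l with
    | nil => simp
    | cons r l ih =>
      rw [List.map_cons, List.map_cons, List.prod_cons, List.prod_cons, ← hz, ← ih]
      group
  have e : C.uprod 0 (fun r => χ r * t r) = C.uprod 0 t := by
    conv_rhs => rw [← mul_inv_cancel_right (C.uprod 0 t) z, ← hc]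
    exact (key _).symm
  refine C.uprod_mem_closure P t fun r hr hPr => ?_
  by_contra ht
  exact hP r hr hPr (mul_right_cancel₀ ht
    ((C.uprod_inj D.nroots 0 (Nat.zero_add _) _ _ e r (Nat.zero_le _) hr).trans (one_mul _).symm))

/-- a monomial element reversing the roots of a set of nodes inverts their torus -/
theorem inverts {J : Finset (Fin D.rank)} {l : List (Fin D.rank)}
    (hm : ∀ j ∈ J, C.G.pw l (C.G.simp' j) = C.G.negr (C.G.simp' j)) (hl : ∀ i, i ∈ l → i ∈ J)
    {n : GL D.Idx K} (hn : n ∈ D.monomialSubgroup K) (hπ : C.G.NPerm n (C.G.pw l))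
    {c : Fin D.rank → Kˣ} (hc : ∀ i, i ∉ J → c i = 1) :
    n * C.G.torθ c * n⁻¹ = (C.G.torθ c)⁻¹ := by
  set w := C.G.nw (K := K) l
  set h := C.G.torθ c with hh
  have hH : h ∈ D.diagonalSubgroup K := (C.G.diagonal_eq_range (K := K)).symm ▸ ⟨c, rfl⟩
  have hd0 : n * w⁻¹ ∈ D.diagonalSubgroup K := by
    refine C.G.mem_H_of_nPerm_one (mul_mem hn (inv_mem (C.G.nw_mem_monomial _))) ?_
    have := Good.NPerm.mul C.G hπ (Good.NPerm.inv C.G (C.G.nPerm_nw (K := K) l))
    rwa [mul_inv_cancel] at this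
  have key : ∀ L : List (Fin D.rank),
      w * (L.map fun i => C.G.hd (C.G.simp' i) (c i)).prod * w⁻¹ =
        (L.map fun i => (C.G.hd (C.G.simp' i) (c i))⁻¹).prod := by
    intro L
    induction L with
    | nil => simp
    | cons i L ih =>
      rw [List.map_cons, List.map_cons, List.prod_cons, List.prod_cons, ← ih]
      have hi : w * C.G.hd (C.G.simp' i) (c i) * w⁻¹ = (C.G.hd (C.G.simp' i) (c i))⁻¹ := by
        by_cases hij : i ∈ J
        · rw [C.G.nw_hd, hm i hij, C.G.hd_negr_simp]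
        · rw [hc i hij, map_one, inv_one, mul_one, mul_inv_cancel]
      rw [← hi]; group
  have hwH : w * h * w⁻¹ = h⁻¹ := by
    rw [hh, C.G.torθ_eq_prod, key]
    have e1 : (fun i => (C.G.hd (C.G.simp' i) (c i))⁻¹) =
        fun i => C.G.hd (C.G.simp' i) ((c⁻¹ : Fin D.rank → Kˣ) i) := by
      funext i; simp
    rw [e1, ← C.G.torθ_eq_prod, map_inv, C.G.torθ_eq_prod]
  rw [show n * h * n⁻¹ = (n * w⁻¹) * (w * h * w⁻¹) * (n * w⁻¹)⁻¹ by group, hwH,
    C.G.diagonal_comm hd0 (inv_mem hH), mul_inv_cancel_right]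

/-- two large halves of a finite group meet -/
theorem exists_pair {G : Type*} [Group G] [Finite G] {α : Type*} (f : α → G) (hf : Function.Injective f)
    (hcard : Nat.card G < 2 * Nat.card α) (g : G) : ∃ a b, g * f a = f b := by
  classical
  haveI : Finite α := Finite.of_injective f hf
  by_contra hcon
  have hinj : Function.Injective (Sum.elim (fun a => g * f a) f) := by
    intro x y e
    rcases x with a | a <;> rcases y with b | b
    · exact congrArg _ (hf (mul_left_cancel e))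
    · exact absurd ⟨a, b, e⟩ hcon
    · exact absurd ⟨b, a, e.symm⟩ hcon
    · exact congrArg _ (hf e)
  have := Nat.card_le_card_of_injective _ hinj
  rw [Nat.card_sum] at this
  omega

end CfsgLib.Lie.GaussSquare
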