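import Cfsg.Agent.Lib.Lie.GaussSquare.SuzGen
import Cfsg.Agent.Lib.Lie.Suz.Char.Covering
import Cfsg.Agent.Lib.Lie.Mult.TF4.Prime

/-!
# The rank-one subgroup of Suzuki type is a Suzuki group
-/

set_option autoImplicit false
set_option maxRecDepth 100000
set_option linter.unusedSectionVars false

namespace CfsgLib.Lie.GaussSquare

open Cfsg.Lie CfsgLib.Lie.Chev
open CfsgLib.Lie.Mult
open scoped MatrixGroups

variable {K : Type*} [Field K] [CharP K 2] [Fintype K] (θ : K ≃+* K) (hsq : ∀ x, θ.symm x = θ x ^ 2)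
  {m : ℕ} (hθ : ∀ x, θ x = x ^ 2 ^ m) (hP : TwGp (TF4.orbits θ hsq) (twistedF4 K (2 ^ m)))
  (hm : 1 ≤ m) (hK : Fintype.card K = 2 ^ (2 * m + 1))

include hθ hm hK

theorem suz_levi : Nonempty
    (↥(TwEngine.Xg (TF4.orbits θ hsq) (twistedF4 K (2 ^ m)) TF4.o1 ⊔ TwEngine.Xng hP TF4.o1) ≃* Cfsg.Sz K m) := by
  classical
  set L := TwEngine.Xg (TF4.orbits θ hsq) (twistedF4 K (2 ^ m)) TF4.o1 ⊔ TwEngine.Xng hP TF4.o1
  have hinjT : Function.Injective (Matrix.SpecialLinearGroup.toGL : SL(4, K) →* GL (Fin 4) K) :=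
    Matrix.SpecialLinearGroup.toGL_injective
  let E := Subgroup.equivMapOfInjective (Cfsg.Sz K m) _ hinjT
  let ψ : ↥L →* Cfsg.Sz K m := E.symm.toMonoidHom.comp
    ((TF4Levi.repL θ hsq hP).codRestrict _ (TF4Levi.repL_mem θ hsq hθ hP hK))
  have hψ : Function.Injective ψ := fun a b e =>
    TF4Prime.repL_injective θ hsq hθ hP hm hK (congrArg Subtype.val (E.symm.injective e))
  have mem : ∀ (g : ↥L) (s : Cfsg.Sz K m),
      TF4Levi.blk (((g : ↥(twistedF4 K (2 ^ m))) : GL chevF4.Idx K) : Matrix chevF4.Idx chevF4.Idx K) =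
        ((s : SL(4, K)) : Matrix (Fin 4) (Fin 4) K) → s ∈ ψ.range := by
    intro g s e
    refine ⟨g, ?_⟩
    refine E.injective ?_
    show E (E.symm _) = _
    rw [MulEquiv.apply_symm_apply]
    refine Subtype.ext (Units.ext ?_)
    show (TF4Levi.repL θ hsq hP g : Matrix (Fin 4) (Fin 4) K) = _
    rw [TF4Levi.repL_val θ hsq hP, e]
    rfl
  have hbe : ∀ t u : K, TF4.b2 θ (TF4.rt 27) (TF4.rt 25) (TF4.rt 28) (TF4.rt 30) t u ∈
      (TF4.twist θ hsq).Fix ⊓ Uinv TF4.C.G ((TF4.orbits θ hsq).wO TF4.o1) := fun t u =>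
    Subgroup.mem_inf.2 ⟨hP.le (TF4.b2_mem θ hsq hθ t u).1, TF4.b2_mem_Uinv θ hsq t u⟩
  have hparam : ∀ a b : K, ∃ t u, θ t = a ∧ θ t * t + u = b := fun a b =>
    ⟨θ.symm a, b - a * θ.symm a, θ.apply_symm_apply a, by rw [θ.apply_symm_apply]; ring⟩
  have htop : ψ.range = ⊤ := by
    refine suz_gen hm hK _ (fun a b => ?_) (fun a b => ?_)
    · obtain ⟨t, u, ea, eb⟩ := hparam a b
      refine mem ⟨⟨_, (TF4.b2_mem θ hsq hθ t u).1⟩,
        Subgroup.mem_sup_left (Subgroup.mem_subgroupOf.2 (hbe t u))⟩ _ ?_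
      rw [← ea, ← eb]
      exact TF4Levi.blk_be θ hsq hθ t u
    · obtain ⟨t, u, ea, eb⟩ := hparam a b
      -- the opposite root subgroup is the negative family
      have hcard : ∃ g : ↥L, TF4Levi.blk (((g : ↥(twistedF4 K (2 ^ m))) : GL chevF4.Idx K) :
          Matrix chevF4.Idx chevF4.Idx K) = CfsgLib.Lie.Suz.Wm * CfsgLib.Lie.Suz.Tm m (θ t) (θ t * t + u) *
            CfsgLib.Lie.Suz.Wm := by
        let g0 : ↥(TwEngine.Xng hP TF4.o1) → K × K := fun g =>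
          ((TF4Levi.Xng_eq θ hsq hθ hP g.2).choose, (TF4Levi.Xng_eq θ hsq hθ hP g.2).choose_spec.choose)
        have hg0 : ∀ g : ↥(TwEngine.Xng hP TF4.o1), ((g : ↥(twistedF4 K (2 ^ m))) : GL chevF4.Idx K) =
            TF4.b2 θ (TF4.rt 20) (TF4.rt 22) (TF4.rt 19) (TF4.rt 17) (g0 g).1 (g0 g).2 := fun g =>
          (TF4Levi.Xng_eq θ hsq hθ hP g.2).choose_spec.choose_spec
        have hinj : Function.Injective g0 := fun g g' e =>
          Subtype.ext (Subtype.ext ((hg0 g).trans (e ▸ (hg0 g').symm)))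
        have hb : Function.Bijective g0 := by
          refine hinj.bijective_of_nat_card_le ?_
          rw [← TF4Levi.card_Uinv1 θ hsq hθ, TwEngine.Xng]
          exact (Nat.card_congr (Subgroup.equivMapOfInjective _ _
            (MulAut.conj (TwEngine.nkG hP TF4.o1)).injective).toEquiv).le
        obtain ⟨g, hg⟩ := hb.2 (t, u)
        refine ⟨⟨g, Subgroup.mem_sup_right g.2⟩, ?_⟩
        rw [hg0 g, hg]
        exact TF4Levi.blk_bn θ hsq hθ t u
      obtain ⟨g, hg⟩ := hcard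
      refine mem g _ ?_
      rw [hg, ← ea, ← eb]
      rfl
  exact ⟨MulEquiv.ofBijective ψ ⟨hψ, MonoidHom.range_eq_top.1 htop⟩⟩

/-- an element of order five whose class squared covers the rank-one subgroup -/
theorem suz_levi_covers : ∃ σ ∈ TwEngine.Xg (TF4.orbits θ hsq) (twistedF4 K (2 ^ m)) TF4.o1 ⊔ TwEngine.Xng hP TF4.o1,
    orderOf σ = 5 ∧ ∀ s ∈ TwEngine.Xg (TF4.orbits θ hsq) (twistedF4 K (2 ^ m)) TF4.o1 ⊔ TwEngine.Xng hP TF4.o1,
      s ≠ 1 → ∃ a ∈ TwEngine.Xg (TF4.orbits θ hsq) (twistedF4 K (2 ^ m)) TF4.o1 ⊔ TwEngine.Xng hP TF4.o1,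
        ∃ b ∈ TwEngine.Xg (TF4.orbits θ hsq) (twistedF4 K (2 ^ m)) TF4.o1 ⊔ TwEngine.Xng hP TF4.o1,
          s = (a * σ * a⁻¹) * (b * σ * b⁻¹) := by
  classical
  obtain ⟨e⟩ := suz_levi θ hsq hθ hP hm hK
  haveI : Fintype (Cfsg.Sz K m) := Fintype.ofFinite _
  have h5 : 5 ∣ Nat.card (Cfsg.Sz K m) := by
    rw [CfsgLib.Lie.Suz.card_Sz hm hK]
    refine Dvd.dvd.mul_right (Dvd.dvd.mul_left ?_ _) _
    rw [hK, ← pow_mul, show (2 * m + 1) * 2 = 4 * m + 2 by ring, pow_add, pow_mul]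
    rw [Nat.dvd_iff_mod_eq_zero, Nat.add_mod, Nat.mul_mod, Nat.pow_mod]
    norm_num
  haveI : Fact (Nat.Prime 5) := ⟨by norm_num⟩
  obtain ⟨x, hx⟩ := exists_prime_orderOf_dvd_card' 5 h5
  refine ⟨(e.symm x : ↥(twistedF4 K (2 ^ m))), (e.symm x).2, ?_, fun s hs hs1 => ?_⟩
  · rw [Subgroup.orderOf_coe, MulEquiv.orderOf_eq, hx]
  · obtain ⟨u, v, h⟩ := CfsgLib.Lie.Suz.covers hm hK (x := x) (g := e ⟨s, hs⟩) (by rw [hx]; norm_num) (by
      intro h
      exact hs1 (congrArg Subtype.val (e.injective (h.trans (map_one e).symm))))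
    refine ⟨_, (e.symm u).2, _, (e.symm v).2, ?_⟩
    have := congrArg (fun z => ((e.symm z : ↥(_ : Subgroup ↥(twistedF4 K (2 ^ m)))) : ↥(twistedF4 K (2 ^ m)))) h
    simpa using this

end CfsgLib.Lie.GaussSquare
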