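import Cfsg.Agent.Lib.Lie.GaussSquare.TF4
import Cfsg.Agent.Lib.Lie.GaussSquare.SuzLevi

/-!
# ²F₄(q), q ≥ 8: a class whose square covers the nontrivial elements
-/

set_option autoImplicit false
set_option maxRecDepth 100000
set_option linter.unusedSectionVars false

namespace CfsgLib.Lie.GaussSquare

open Cfsg.Lie CfsgLib.Lie.Chev
open CfsgLib.Lie.Mult
open scoped MatrixGroups

theorem pow_mod_five (n : ℕ) : 2 ^ (2 * n + 1) % 5 = 2 ∨ 2 ^ (2 * n + 1) % 5 = 3 := by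
  induction n with
  | zero => left; rfl
  | succ n ih =>
    rw [show 2 * (n + 1) + 1 = 2 * n + 1 + 2 by ring, pow_add]
    omega

variable {K : Type*} [Field K] [CharP K 2] [Fintype K] (θ : K ≃+* K) (hsq : ∀ x, θ.symm x = θ x ^ 2)
  {m : ℕ} (hθ : ∀ x, θ x = x ^ 2 ^ m) (hP : TwGp (TF4.orbits θ hsq) (twistedF4 K (2 ^ m)))

include hθ hsq

omit [Fintype K] in
theorem o1_inJ {r : Fin chevF4.nroots}
    (hr : ∀ m : Fin chevF4.rank, m ∉ orbGraphF4.nodes chevF4 TF4.o1 → TF4.C.G.rho r m = 0) (b : Kˣ) (t : K) :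
    Commute (torF θ (zpar m b)) (TF4.C.G.xu r t) := by
  refine tor_commute_iff θ hsq (x := zpar m b) ?_ t
  rw [chr_z θ hsq hθ, ((Tab.exps r).1 hr).1, ((Tab.exps r).1 hr).2]
  simp

theorem z_comm (b : Kˣ) {l : ↥(twistedF4 K (2 ^ m))}
    (hl : l ∈ TwEngine.Xg (TF4.orbits θ hsq) (twistedF4 K (2 ^ m)) TF4.o1 ⊔ TwEngine.Xng hP TF4.o1) :
    l * torH θ hsq hP (zpar m b) = torH θ hsq hP (zpar m b) * l := by
  refine Subtype.ext ?_
  simp only [Subgroup.coe_mul]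
  have h := TwEngine.L_le_LJ hP TF4.o1 hl
  have hle : (LJ TF4.C.G ((TF4.orbits θ hsq).J TF4.o1) : Subgroup (GL chevF4.Idx K)) ≤
      Subgroup.centralizer {torF θ (zpar m b)} := by
    refine (Subgroup.closure_le _).2 ?_
    rintro _ ⟨r, t, hr, rfl⟩
    exact Subgroup.mem_centralizer_singleton_iff.2 (o1_inJ θ hsq hθ hr b t).symm.eq
  exact Subgroup.mem_centralizer_singleton_iff.1 (hle h)

omit [Fintype K] in
theorem z_moves {b : Kˣ} (hb : b ≠ 1) {r : Fin chevF4.nroots} (hr : chevF4.IsPosRoot r.val)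
    (hk : chevF4.IsPosRoot ((TF4.orbits θ hsq).wO TF4.o1 r).val) :
    (chr θ (zpar m b).1 (zpar m b).2 r : K) ≠ 1 ∧
      (chr θ (zpar m b).1 (zpar m b).2 (π0 θ hsq r) : K) ≠ 1 := by
  rw [wO_run] at hk
  obtain ⟨h1, h2⟩ := (Tab.exps r).2 hr hk
  have e : π0 θ hsq r = ⟨Tab.run Tab.w0 r.val % chevF4.nroots, Nat.mod_lt _ r.pos⟩ := by
    refine Fin.ext ?_
    show _ = Tab.run Tab.w0 r.val % chevF4.nroots
    rw [← π0_val θ hsq r, Nat.mod_eq_of_lt (π0 θ hsq r).isLt]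
  refine ⟨fun h => ?_, fun h => ?_⟩
  · rw [Units.val_eq_one, chr_z θ hsq hθ] at h
    exact hb (exp_faithful θ hsq hθ h1 h)
  · rw [Units.val_eq_one, chr_z θ hsq hθ, e] at h
    exact hb (exp_faithful θ hsq hθ h2 h)

theorem z_fix_R {b : Kˣ} (hb : b ≠ 1) {r : ↥(twistedF4 K (2 ^ m))}
    (hr : r ∈ TwEngine.Vg (TF4.orbits θ hsq) (twistedF4 K (2 ^ m)) TF4.o1) :
    (torH θ hsq hP (zpar m b) * r = r * torH θ hsq hP (zpar m b) → r = 1) ∧
      (torH θ hsq hP (zpar m b) * (n0 θ hsq hP * r * (n0 θ hsq hP)⁻¹) =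
          n0 θ hsq hP * r * (n0 θ hsq hP)⁻¹ * torH θ hsq hP (zpar m b) → r = 1) := by
  obtain ⟨hrF, hrU⟩ := Subgroup.mem_inf.1 (Subgroup.mem_subgroupOf.1 hr)
  have key : ∀ (z : GL chevF4.Idx K) (χ : Fin chevF4.nroots → K),
      (∀ r a, z * TF4.C.G.xu r a * z⁻¹ = TF4.C.G.xu r (χ r * a)) →
      (∀ r : Fin chevF4.nroots, chevF4.IsPosRoot r.val →
        chevF4.IsPosRoot ((TF4.orbits θ hsq).wO TF4.o1 r).val → χ r ≠ 1) →
      z * r = r * z → r = 1 := by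
    intro z χ hz hχ hc
    have h1 := fixed_U TF4.C χ hz (fun r => ¬ chevF4.IsPosRoot ((TF4.orbits θ hsq).wO TF4.o1 r).val)
      (fun r h h' => hχ r h (not_not.1 h')) (TF4.C.G.Ukeep_le _ hrU) hc
    exact Subtype.ext (Subgroup.mem_bot.1
      (TF4.C.G.Ukeep_inf_Uinv (TwEngine.nE_perm hP TF4.o1) ▸ Subgroup.mem_inf.2 ⟨hrU, h1⟩))
  refine ⟨fun hc => ?_, fun hc => ?_⟩
  · refine key _ _ (fun r a => tor_conj θ (zpar m b).1 (zpar m b).2 r a)
      (fun r h h' => (z_moves θ hsq hθ hb h h').1) ?_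
    have := congrArg Subtype.val hc
    simpa [torH_val] using this
  · set N : GL chevF4.Idx K := ((n0 θ hsq hP : ↥(twistedF4 K (2 ^ m))) : GL chevF4.Idx K) with hN
    set Z : GL chevF4.Idx K := TF4.C.G.torθ (TF4.par θ (zpar m b).1 (zpar m b).2) with hZ
    have hπ : TF4.C.G.NPerm N (π0 θ hsq) := (n0_spec θ hsq hP).1
    refine key (N⁻¹ * Z * N) (fun r => (chr θ (zpar m b).1 (zpar m b).2 (π0 θ hsq r) : K)) (fun r a => ?_)
      (fun r h h' => (z_moves θ hsq hθ hb h h').2) ?_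
    · obtain ⟨c, hc⟩ := hπ r
      calc N⁻¹ * Z * N * TF4.C.G.xu r a * (N⁻¹ * Z * N)⁻¹
          = N⁻¹ * (Z * (N * TF4.C.G.xu r a * N⁻¹) * Z⁻¹) * N := by group
        _ = N⁻¹ * (N * TF4.C.G.xu r ((chr θ (zpar m b).1 (zpar m b).2 (π0 θ hsq r) : K) * a) * N⁻¹) * N := by
            rw [hc, hc, hZ, tor_conj θ (zpar m b).1 (zpar m b).2, mul_left_comm]
        _ = _ := by group
    · have := congrArg Subtype.val hc
      simp only [Subgroup.coe_mul, Subgroup.coe_inv, torH_val] at this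
      rw [← hN, ← hZ] at this
      calc N⁻¹ * Z * N * (r : GL chevF4.Idx K) = N⁻¹ * (Z * (N * r * N⁻¹)) * N := by group
        _ = _ := by rw [this]; group

theorem covers_twistedF4 (hm : 1 ≤ m) (hK : Fintype.card K = 2 ^ (2 * m + 1)) :
    ∃ x : ↥(twistedF4 K (2 ^ m)), Odd (orderOf x) ∧
      ∀ g, g ≠ 1 → ∃ u v, g = (u * x * u⁻¹) * (v * x * v⁻¹) := by
  classical
  have hP := TF4.twGp θ hsq hθ
  obtain ⟨σ, hσ, hσ5, hcov⟩ := suz_levi_covers θ hsq hθ hP hm hK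
  obtain ⟨b, -, hb, -, -⟩ := exists_ne_one (K := K) θ hθ hm hK
  set D := datum θ hsq hθ hP hm hK
  have hS : D.S D.k1 = TwEngine.Xg (TF4.orbits θ hsq) (twistedF4 K (2 ^ m)) TF4.o1 ⊔ TwEngine.Xng hP TF4.o1 :=
    S_eq θ hsq hP TF4.o1
  have hz5 : (5 : ℕ).Coprime (orderOf (torH θ hsq hP (zpar m b))) ∧ Odd (orderOf (torH θ hsq hP (zpar m b))) := by
    have h1 : orderOf (torH θ hsq hP (zpar m b)) ∣ Nat.card Kˣ := by
      refine orderOf_dvd_of_pow_eq_one ?_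
      rw [← map_pow, show zpar m b ^ Nat.card Kˣ = 1 from
        Prod.ext pow_card_eq_one' pow_card_eq_one', map_one]
    refine ⟨Nat.Coprime.coprime_dvd_right h1 ?_, (card_units_odd hm hK).of_dvd_nat h1⟩
    rw [Nat.card_units, Nat.card_eq_fintype_card, hK, Nat.Prime.coprime_iff_not_dvd (by norm_num)]
    intro h5
    have h0 : (2 ^ (2 * m + 1) - 1) % 5 = 0 := Nat.mod_eq_zero_of_dvd h5
    have h2 := pow_mod_five m
    have h3 : 1 ≤ 2 ^ (2 * m + 1) := Nat.one_le_two_pow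
    omega
  refine D.covers (σ := σ) (z := torH θ hsq hP (zpar m b)) (hS ▸ hσ) (torH_mem θ hsq hP _) ?_
    (by rw [hσ5]; exact hz5.1) (by rw [hσ5]; decide) hz5.2
    (fun r hr => (z_fix_R θ hsq hθ hP hb hr).1) (fun r hr => (z_fix_R θ hsq hθ hP hb hr).2) ?_
  · exact Datum.Cen.of_torus D (torH_mem θ hsq hP _) fun l hl => z_comm θ hsq hθ hP b (hS ▸ hl)
  · intro s hs hs1
    rw [hS] at hs ⊢
    exact hcov s hs hs1

omit hθ hsq in
theorem covers_iso2F4 {G : Type*} [Group G] (hG : Iso2F4 G) :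
    ∃ x : G, Odd (orderOf x) ∧ ∀ g : G, g ≠ 1 → ∃ u v : G, g = (u * x * u⁻¹) * (v * x * v⁻¹) := by
  obtain ⟨K', iF, iT, m', hm, hK, ⟨e⟩⟩ := hG
  obtain ⟨hc, θ', hsq', hθ'⟩ := TF4.exists_theta hK
  obtain ⟨x, hx, hcov⟩ := covers_twistedF4 θ' hsq' hθ' hm hK
  refine ⟨e.symm x, by rwa [MulEquiv.orderOf_eq], fun g hg => ?_⟩
  obtain ⟨u, v, h⟩ := hcov (e g) (by simpa using hg)
  exact ⟨e.symm u, e.symm v, e.injective (by simpa using h)⟩

end CfsgLib.Lie.GaussSquare
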