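import Cfsg.Agent.Lib.Lie.Suz.Group

/-!
# The Suzuki group is generated by two opposite unipotent groups
-/

set_option autoImplicit false
set_option linter.unusedSectionVars false

namespace CfsgLib.Lie.GaussSquare

open Cfsg CfsgLib.Lie.Suz
open scoped MatrixGroups

variable {F : Type*} [Field F] [Fintype F] {m : ℕ} (hm : 1 ≤ m) (hF : Fintype.card F = 2 ^ (2 * m + 1))

include hm

theorem suz_gen (M : Subgroup (Cfsg.Sz F m)) (hT : ∀ a b, TS hF a b ∈ M)
    (hW : ∀ a b, WS hF * TS hF a b * WS hF ∈ M) : M = ⊤ := by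
  classical
  have hS := isSuzField hF
  have hWW : WS (m := m) hF * WS hF = 1 := Subtype.ext W_sq
  set N := Subgroup.closure {g : Cfsg.Sz F m | ∃ a b, g = TS hF a b ∨ g = WS hF * TS hF a b * WS hF} with hN
  have hNM : N ≤ M := (Subgroup.closure_le _).2 (by
    rintro g ⟨a, b, rfl | rfl⟩
    exacts [hT a b, hW a b])
  have hTN : ∀ a b, TS hF a b ∈ N := fun a b => Subgroup.subset_closure ⟨a, b, Or.inl rfl⟩
  have hWN : ∀ a b, WS hF * TS hF a b * WS hF ∈ N := fun a b => Subgroup.subset_closure ⟨a, b, Or.inr rfl⟩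
  -- the torus normalises
  have hHN : ∀ k : Fˣ, ∀ g ∈ N, HS hF k * g * (HS hF k)⁻¹ ∈ N := by
    intro k g hg
    have hle : N ≤ N.comap (MulAut.conj (HS hF k)).toMonoidHom := by
      refine (Subgroup.closure_le _).2 ?_
      rintro g ⟨a, b, rfl | rfl⟩
      · show HS hF k * TS hF a b * (HS hF k)⁻¹ ∈ N
        rw [H_conj_T hF]
        exact hTN _ _
      · show HS hF k * (WS hF * TS hF a b * WS hF) * (HS hF k)⁻¹ ∈ N
        have e : HS (m := m) hF k * WS hF = WS hF * HS hF k⁻¹ := by
          have h := WHW (m := m) (F := F) k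
          refine Subtype.ext ?_
          show H m k * W = W * H m k⁻¹
          rw [← h, ← mul_assoc, ← mul_assoc, show (W : SL(4, F)) * W = 1 from W_sq, one_mul]
        have e' : WS (m := m) hF * (HS hF k)⁻¹ = (HS hF k⁻¹)⁻¹ * WS hF := by
          have h := congrArg (fun x => x⁻¹) e
          simp only [mul_inv_rev, inv_eq_of_mul_eq_one_right hWW] at h
          exact h
        rw [show HS hF k * (WS hF * TS hF a b * WS hF) * (HS hF k)⁻¹ =
          (HS hF k * WS hF) * TS hF a b * (WS hF * (HS hF k)⁻¹) by group, e, e',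
          show WS hF * HS hF k⁻¹ * TS hF a b * ((HS hF k⁻¹)⁻¹ * WS hF) =
            WS hF * (HS hF k⁻¹ * TS hF a b * (HS hF k⁻¹)⁻¹) * WS hF by group, H_conj_T hF]
        exact hWN _ _
    exact hle hg
  -- every element is a product of an element of `N` and a torus element
  have hdec : ∀ g : Cfsg.Sz F m, ∃ n ∈ N, ∃ k, g = n * HS hF k := by
    intro g
    obtain ⟨n, hn, hfix⟩ : ∃ n ∈ N, (n⁻¹ * g) • suzukiPointInfinity F = suzukiPointInfinity F := by
      by_cases hg : g • suzukiPointInfinity F = suzukiPointInfinity F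
      · exact ⟨1, one_mem _, by simpa using hg⟩
      · set n1 : Cfsg.Sz F m := WS hF * TS hF 1 0 * WS hF with hn1
        have h1 : n1 • suzukiPointInfinity F ≠ suzukiPointInfinity F :=
          W_eq_conj_T hF (a := 1) (b := 0) (by simp)
        obtain ⟨c, d, hc⟩ : ∃ c d, g • suzukiPointInfinity F = pt m c d :=
          ((ovoid_iff _).1 (orbit_inf hF ▸ MulAction.mem_orbit _ g)).resolve_left hg
        obtain ⟨a, b, ha⟩ : ∃ a b, n1 • suzukiPointInfinity F = pt m a b :=
          ((ovoid_iff _).1 (orbit_inf hF ▸ MulAction.mem_orbit _ n1)).resolve_left h1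
        refine ⟨TS hF c d * (TS hF a b)⁻¹ * n1, mul_mem (mul_mem (hTN c d) (inv_mem (hTN a b))) (hWN 1 0), ?_⟩
        have e0 : ∀ x y : F, TS hF x y • pt m (0 : F) 0 = pt m x y := fun x y => by
          show (T m x y : SL(4, F)) • pt m (0 : F) 0 = pt m x y
          rw [pt_zero_zero]
          exact T_zero_pt hS x y
        rw [mul_smul, inv_smul_eq_iff, hc, mul_smul, ha, mul_smul, ← e0 c d]
        congr 1
        rw [← e0 a b, inv_smul_smul]
    obtain ⟨a, b, k, e⟩ := (mem_stab_inf hm hF).1 (MulAction.mem_stabilizer_iff.2 hfix)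
    exact ⟨n * TS hF a b, mul_mem hn (hTN a b), k, by rw [mul_assoc, ← e, mul_inv_cancel_left]⟩
  have hnormal : N.Normal := ⟨fun x hx g => by
    obtain ⟨n, hn, k, rfl⟩ := hdec g
    rw [show n * HS hF k * x * (n * HS hF k)⁻¹ = n * (HS hF k * x * (HS hF k)⁻¹) * n⁻¹ by group]
    exact mul_mem (mul_mem hn (hHN k x hx)) (inv_mem hn)⟩
  haveI := simple hm hF
  rcases hnormal.eq_bot_or_eq_top with h | h
  · exfalso
    have h1 := hTN 1 0
    rw [h, Subgroup.mem_bot] at h1
    exact one_ne_zero (congrArg Prod.fst (TS_injective hF (a₁ := ((1 : F), (0 : F))) (a₂ := (0, 0))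
      (h1.trans (Subtype.ext T_zero.symm))))
  · exact top_le_iff.1 (h ▸ hNM)

end CfsgLib.Lie.GaussSquare
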