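import Cfsg.Agent.Lib.Lie.GaussSquare.TF4Roots

/-!
# Every element of ²F₄(q), q ≥ 8, is conjugate into `V H U`
-/

set_option autoImplicit false
set_option maxRecDepth 100000
set_option linter.unusedSectionVars false

namespace CfsgLib.Lie.GaussSquare

open Cfsg.Lie CfsgLib.Lie.Chev
open CfsgLib.Lie.Mult
open scoped MatrixGroups

theorem size_bound (q : ℕ) (hq : 8 ≤ q) :
    q ^ 12 * (q - 1) * (q ^ 3 + 1) * (q ^ 4 - 1) * (q ^ 6 + 1) < 2 * (q ^ 12 * (q - 1) ^ 2 * q ^ 12) := by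
  obtain ⟨p, rfl⟩ : ∃ p, q = p + 1 := ⟨q - 1, by omega⟩
  have h1 : p + 1 - 1 = p := by omega
  rw [h1]
  have h2 : ((p + 1) ^ 3 + 1) * ((p + 1) ^ 4 - 1) * ((p + 1) ^ 6 + 1) < 2 * p * (p + 1) ^ 12 := by
    calc ((p + 1) ^ 3 + 1) * ((p + 1) ^ 4 - 1) * ((p + 1) ^ 6 + 1)
        ≤ ((p + 1) ^ 3 + 1) * (p + 1) ^ 4 * ((p + 1) ^ 6 + 1) := by gcongr; omega
      _ < 2 * p * (p + 1) ^ 12 := by
        have a1 : (p + 1) ^ 4 ≤ (p + 1) ^ 12 := Nat.pow_le_pow_right (by omega) (by omega)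
        have a2 : (p + 1) ^ 7 ≤ (p + 1) ^ 12 := Nat.pow_le_pow_right (by omega) (by omega)
        have a3 : (p + 1) ^ 10 ≤ (p + 1) ^ 12 := Nat.pow_le_pow_right (by omega) (by omega)
        have a4 : (p + 1 + 3) * (p + 1) ^ 12 < 2 * p * (p + 1) ^ 12 :=
          Nat.mul_lt_mul_of_pos_right (by omega) (by positivity)
        calc ((p + 1) ^ 3 + 1) * (p + 1) ^ 4 * ((p + 1) ^ 6 + 1)
            = (p + 1) * (p + 1) ^ 12 + (p + 1) ^ 10 + (p + 1) ^ 7 + (p + 1) ^ 4 := by ring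
          _ ≤ (p + 1 + 3) * (p + 1) ^ 12 := by linarith
          _ < _ := a4
  calc (p + 1) ^ 12 * p * ((p + 1) ^ 3 + 1) * ((p + 1) ^ 4 - 1) * ((p + 1) ^ 6 + 1)
      = (p + 1) ^ 12 * p * (((p + 1) ^ 3 + 1) * ((p + 1) ^ 4 - 1) * ((p + 1) ^ 6 + 1)) := by ring
    _ < (p + 1) ^ 12 * p * (2 * p * (p + 1) ^ 12) :=
        Nat.mul_lt_mul_of_pos_left h2 (Nat.mul_pos (by positivity) (by omega))
    _ = _ := by ring

variable {K : Type*} [Field K] [CharP K 2] [Fintype K] (θ : K ≃+* K) (hsq : ∀ x, θ.symm x = θ x ^ 2)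
  {m : ℕ} (hP : TwGp (TF4.orbits θ hsq) (twistedF4 K (2 ^ m)))

/-- the longest element -/
noncomputable def n0 : ↥(twistedF4 K (2 ^ m)) := (Tab.w0.map (TwEngine.nE hP)).prod

theorem n0_conj_H {h : ↥(twistedF4 K (2 ^ m))} (hh : h ∈ TwEngine.Hg (TF4.twist θ hsq) (twistedF4 K (2 ^ m))) :
    (n0 θ hsq hP)⁻¹ * h * n0 θ hsq hP ∈ TwEngine.Hg (TF4.twist θ hsq) (twistedF4 K (2 ^ m)) ∧
      n0 θ hsq hP * h * (n0 θ hsq hP)⁻¹ ∈ TwEngine.Hg (TF4.twist θ hsq) (twistedF4 K (2 ^ m)) := by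
  have hn := (Subgroup.mem_inf.1 (n0_spec θ hsq hP).2).2
  refine ⟨?_, TwEngine.H_conj_N hP hn hh⟩
  have := TwEngine.H_conj_N hP (a := (n0 θ hsq hP)⁻¹) (inv_mem hn) hh
  rwa [inv_inv] at this

theorem uniq {v h u : ↥(twistedF4 K (2 ^ m))} (hv : v ∈ TwEngine.Ug (TF4.twist θ hsq) (twistedF4 K (2 ^ m)))
    (hh : h ∈ TwEngine.Hg (TF4.twist θ hsq) (twistedF4 K (2 ^ m)))
    (hu : u ∈ TwEngine.Ug (TF4.twist θ hsq) (twistedF4 K (2 ^ m)))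
    (e : n0 θ hsq hP * v * (n0 θ hsq hP)⁻¹ * h * u = 1) : v = 1 ∧ h = 1 ∧ u = 1 := by
  set w := n0 θ hsq hP * v * (n0 θ hsq hP)⁻¹ with hw
  have hV : (w : GL chevF4.Idx K) ∈ chevF4.negUnipotent K := n0_U θ hsq hP hv
  have hhD := (Subgroup.mem_inf.1 (Subgroup.mem_subgroupOf.1 hh)).2
  have huU := (Subgroup.mem_inf.1 (Subgroup.mem_subgroupOf.1 hu)).2
  have ew : w = u⁻¹ * h⁻¹ := by
    rw [mul_assoc, mul_eq_one_iff_eq_inv, mul_inv_rev] at e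
    exact e
  have hB : (w : GL chevF4.Idx K) ∈ chevF4.borelSubgroup K := by
    rw [ew, Subgroup.coe_mul, Subgroup.coe_inv, Subgroup.coe_inv]
    exact mul_mem (Subgroup.mem_sup_left (inv_mem huU)) (Subgroup.mem_sup_right (inv_mem hhD))
  have hw1 : w = 1 := Subtype.ext (Subgroup.mem_bot.1 (TF4.C.G.B_inf_V (K := K) ▸ Subgroup.mem_inf.2 ⟨hB, hV⟩))
  rw [hw1] at ew
  have h2 := congrArg Subtype.val ew
  rw [Subgroup.coe_mul, Subgroup.coe_inv, Subgroup.coe_inv] at h2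
  obtain ⟨h3, h4⟩ := TF4.C.G.eq_one_of_U_H (inv_mem huU) (inv_mem hhD) h2.symm
  rw [inv_eq_one] at h3 h4
  rw [hw, conj_eq_one_iff] at hw1
  exact ⟨hw1, Subtype.ext h4, Subtype.ext h3⟩

theorem cover (hm : 1 ≤ m) (hK : Fintype.card K = 2 ^ (2 * m + 1)) (g : ↥(twistedF4 K (2 ^ m))) :
    ∃ c, ∃ v ∈ TwEngine.Ug (TF4.twist θ hsq) (twistedF4 K (2 ^ m)),
      ∃ h ∈ TwEngine.Hg (TF4.twist θ hsq) (twistedF4 K (2 ^ m)),
      ∃ u ∈ TwEngine.Ug (TF4.twist θ hsq) (twistedF4 K (2 ^ m)),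
        c * g * c⁻¹ = n0 θ hsq hP * v * (n0 θ hsq hP)⁻¹ * h * u := by
  haveI : Finite ↥(twistedF4 K (2 ^ m)) := inferInstance
  set U := TwEngine.Ug (TF4.twist θ hsq) (twistedF4 K (2 ^ m))
  set H := TwEngine.Hg (TF4.twist θ hsq) (twistedF4 K (2 ^ m))
  set n := n0 θ hsq hP with hn
  have hnn : n * n ∈ H := by
    obtain ⟨hπ, hN⟩ := n0_spec θ hsq hP
    refine Subgroup.mem_subgroupOf.2 (Subgroup.mem_inf.2 ⟨mul_mem hN.1 hN.1, ?_⟩)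
    refine TF4.C.G.mem_H_of_nPerm_one (mul_mem hN.2 hN.2) ?_
    have := Good.NPerm.mul TF4.C.G hπ hπ
    rwa [π0_sq] at this
  have hHU : ∀ h ∈ H, ∀ u ∈ U, h * u * h⁻¹ ∈ U := fun h hh u hu => TwEngine.H_conj_U hP hh hu
  let f : U × H × U → ↥(twistedF4 K (2 ^ m)) := fun x => x.1 * n * x.2.1 * x.2.2
  have hf : Function.Injective f := by
    rintro ⟨⟨u, hu⟩, ⟨h, hh⟩, ⟨u', hu'⟩⟩ ⟨⟨u₁, hu₁⟩, ⟨h₁, hh₁⟩, ⟨u₁', hu₁'⟩⟩ e
    have e' : u * n * h * u' = u₁ * n * h₁ * u₁' := e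
    obtain ⟨a1, a2, a3⟩ := uniq θ hsq hP (v := (n * n)⁻¹ * (u₁⁻¹ * u) * (n * n))
      (h := h * h₁⁻¹) (u := h₁ * (u' * u₁'⁻¹) * h₁⁻¹)
      (by
        have := hHU _ (inv_mem hnn) _ (mul_mem (inv_mem hu₁) hu)
        rwa [inv_inv] at this)
      (mul_mem hh (inv_mem hh₁)) (hHU _ hh₁ _ (mul_mem hu' (inv_mem hu₁'))) (by
        rw [← hn]
        calc n * ((n * n)⁻¹ * (u₁⁻¹ * u) * (n * n)) * n⁻¹ * (h * h₁⁻¹) * (h₁ * (u' * u₁'⁻¹) * h₁⁻¹)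
            = n⁻¹ * u₁⁻¹ * (u * n * h * u') * u₁'⁻¹ * h₁⁻¹ := by group
          _ = 1 := by rw [e']; group)
    rw [conj_eq_one_iff, mul_inv_eq_one] at a3
    rw [mul_inv_eq_one] at a2
    have a4 : u₁⁻¹ * u = 1 := by
      calc u₁⁻¹ * u = (n * n) * ((n * n)⁻¹ * (u₁⁻¹ * u) * (n * n)) * (n * n)⁻¹ := by group
        _ = 1 := by rw [a1]; group
    rw [inv_mul_eq_one] at a4
    simp only [Prod.mk.injEq, Subtype.mk.injEq]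
    exact ⟨a4.symm, a2, a3⟩
  have hcard : Nat.card ↥(twistedF4 K (2 ^ m)) < 2 * Nat.card (U × H × U) := by
    obtain ⟨-, hU, hH, hG, -⟩ := TF4.summary hK
    have eU : Nat.card U = (2 ^ (2 * m + 1)) ^ 12 := by
      rw [← hU, hP.U_eq]
      exact Nat.card_congr (Subgroup.subgroupOfEquivOfLe hP.toPre.U_le).toEquiv
    have eH : Nat.card H = (2 ^ (2 * m + 1) - 1) ^ 2 := by
      rw [← hH, hP.H_eq]
      exact Nat.card_congr (Subgroup.subgroupOfEquivOfLe hP.H_le).toEquiv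
    rw [hG, Nat.card_prod, Nat.card_prod, eU, eH, ← mul_assoc (_ ^ 12)]
    exact size_bound _ (by
      calc 8 = 2 ^ 3 := rfl
        _ ≤ _ := Nat.pow_le_pow_right (by norm_num) (by omega))
  obtain ⟨⟨⟨u, hu⟩, ⟨h, hh⟩, ⟨u', hu'⟩⟩, ⟨⟨u₁, hu₁⟩, ⟨h₁, hh₁⟩, ⟨u₁', hu₁'⟩⟩, e⟩ := exists_pair f hf hcard g
  have e' : g * (u * n * h * u') = u₁ * n * h₁ * u₁' := e
  refine ⟨u₁⁻¹, h₁ * (u₁' * u'⁻¹) * h₁⁻¹, hHU _ hh₁ _ (mul_mem hu₁' (inv_mem hu')),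
    n * (h₁ * h⁻¹) * n⁻¹, (n0_conj_H θ hsq hP (mul_mem hh₁ (inv_mem hh))).2,
    u⁻¹ * u₁, mul_mem (inv_mem hu) hu₁, ?_⟩
  calc u₁⁻¹ * g * u₁⁻¹⁻¹ = u₁⁻¹ * (g * (u * n * h * u')) * (u * n * h * u')⁻¹ * u₁ := by group
    _ = _ := by rw [e']; group

end CfsgLib.Lie.GaussSquare
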