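import Cfsg.Agent.Lib.Lie.GaussSquare.TF4Roots
import Cfsg.Agent.Lib.Lie.Mult.TF4.Prime

/-!
# The torus of ²F₄ on the rank-one subgroups
-/

set_option autoImplicit false
set_option maxRecDepth 100000
set_option linter.unusedSectionVars false

namespace CfsgLib.Lie.GaussSquare

open Cfsg.Lie CfsgLib.Lie.Chev
open CfsgLib.Lie.Mult
open scoped MatrixGroups

variable {K : Type*} [Field K] [CharP K 2] [Fintype K] (θ : K ≃+* K) (hsq : ∀ x, θ.symm x = θ x ^ 2)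
  {m : ℕ} (hθ : ∀ x, θ x = x ^ 2 ^ m) (hP : TwGp (TF4.orbits θ hsq) (twistedF4 K (2 ^ m)))

include hθ

/-- commuting with a root subgroup forces trivial characters -/
theorem chr_of_commute (x : Kˣ × Kˣ) :
    ((∀ y ∈ TwEngine.Xg (TF4.orbits θ hsq) (twistedF4 K (2 ^ m)) TF4.o0,
      torH θ hsq hP x * y = y * torH θ hsq hP x) → chr θ x.1 x.2 (TF4.rt 24) = 1) ∧
    ((∀ y ∈ TwEngine.Xg (TF4.orbits θ hsq) (twistedF4 K (2 ^ m)) TF4.o1,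
      torH θ hsq hP x * y = y * torH θ hsq hP x) → chr θ x.1 x.2 (TF4.rt 25) = 1) := by
  have key : ∀ (l : List (Fin chevF4.nroots)) (v : Fin chevF4.nroots → K),
      TF4.C.G.torθ (TF4.par θ x.1 x.2) * (l.map fun r => TF4.C.G.xu r (v r)).prod *
        (TF4.C.G.torθ (TF4.par θ x.1 x.2))⁻¹ =
      (l.map fun r => TF4.C.G.xu r ((chr θ x.1 x.2 r : K) * v r)).prod := by
    intro l v
    induction l with
    | nil => simp
    | cons r l ih =>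
      rw [List.map_cons, List.map_cons, List.prod_cons, List.prod_cons, ← tor_conj, ← ih]
      group
  refine ⟨fun h => ?_, fun h => ?_⟩
  · have hmem : TF4.p2 θ (TF4.rt 33) (TF4.rt 24) (1 : K) ∈
        (TF4.twist θ hsq).Fix ⊓ Uinv TF4.C.G ((TF4.orbits θ hsq).wO TF4.o0) :=
      Subgroup.mem_inf.2 ⟨hP.le (TF4.pair_mem θ hθ 1).1, TF4.p2_mem_Uinv θ hsq 1⟩
    have e0 := congrArg Subtype.val (h ⟨_, (TF4.pair_mem θ hθ 1).1⟩ (Subgroup.mem_subgroupOf.2 hmem))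
    simp only [Subgroup.coe_mul, torH_val] at e0
    rw [← TF4.p2_prod θ hsq] at e0
    have e1 := key [TF4.rt 24, TF4.rt 33] (fun r => if r = TF4.rt 24 then (1 : K) else θ 1)
    rw [e0, mul_inv_cancel_right] at e1
    have := TF4.C.normal_inj ((TF4.L_eq θ hsq TF4.o0).trans (show TF4.L TF4.o0 = [TF4.rt 24, TF4.rt 33] from rfl))
      _ _ e1 (r := TF4.rt 24) (by simp)
    exact Units.ext (by simpa using this.symm)
  · have hmem : TF4.b2 θ (TF4.rt 27) (TF4.rt 25) (TF4.rt 28) (TF4.rt 30) (1 : K) 0 ∈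
        (TF4.twist θ hsq).Fix ⊓ Uinv TF4.C.G ((TF4.orbits θ hsq).wO TF4.o1) :=
      Subgroup.mem_inf.2 ⟨hP.le (TF4.b2_mem θ hsq hθ 1 0).1, TF4.b2_mem_Uinv θ hsq 1 0⟩
    have e0 := congrArg Subtype.val (h ⟨_, (TF4.b2_mem θ hsq hθ 1 0).1⟩ (Subgroup.mem_subgroupOf.2 hmem))
    simp only [Subgroup.coe_mul, torH_val] at e0
    rw [← TF4.b2_prod θ hsq] at e0
    have e1 := key [TF4.rt 25, TF4.rt 27, TF4.rt 28, TF4.rt 30] (TF4.v2 θ 1 0)
    rw [e0, mul_inv_cancel_right] at e1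
    have := TF4.C.normal_inj ((TF4.L_eq θ hsq TF4.o1).trans
      (show TF4.L TF4.o1 = [TF4.rt 25, TF4.rt 27, TF4.rt 28, TF4.rt 30] from rfl))
      _ _ e1 (r := TF4.rt 25) (by simp)
    obtain ⟨w1, -, -, -⟩ := TF4.v2_vals θ (1 : K) 0
    rw [w1, mul_one] at this
    exact Units.ext this.symm

theorem chr_24_25 (a b : Kˣ) :
    chr θ a b (TF4.rt 24) = a ^ (2 : ℤ) * b ^ (-1 : ℤ) ∧
      chr θ a b (TF4.rt 25) = a ^ (-1 : ℤ) * b ^ ((2 : ℤ) - 2 * 2 ^ m) := by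
  have h := Tab.rows
  simp only [List.map_cons, List.map_nil, List.cons.injEq, and_true] at h
  obtain ⟨⟨a0, a1, a2, a3⟩, b0, b1, b2, b3⟩ := h
  refine ⟨?_, ?_⟩
  · rw [chr_eq θ hθ, a0, a1, a2, a3]; simp
  · rw [chr_eq θ hθ, b0, b1, b2, b3]
    congr 1 <;> congr 1 <;> ring

include hsq

theorem faith0 (a : Kˣ) (h : ∀ y ∈ TwEngine.Xg (TF4.orbits θ hsq) (twistedF4 K (2 ^ m)) TF4.o1,
    torH θ hsq hP (a, 1) * y = y * torH θ hsq hP (a, 1)) : a = 1 := by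
  have := (chr_of_commute θ hsq hθ hP (a, 1)).2 h
  rw [(chr_24_25 θ hθ a 1).2] at this
  simpa using this

theorem faith1 (b : Kˣ) (h : ∀ y ∈ TwEngine.Xg (TF4.orbits θ hsq) (twistedF4 K (2 ^ m)) TF4.o0,
    torH θ hsq hP (1, b) * y = y * torH θ hsq hP (1, b)) : b = 1 := by
  have := (chr_of_commute θ hsq hθ hP (1, b)).1 h
  rw [(chr_24_25 θ hθ 1 b).1] at this
  simpa using this

theorem faith (x : Kˣ × Kˣ)
    (h : ∀ k, ∀ y ∈ TwEngine.Xg (TF4.orbits θ hsq) (twistedF4 K (2 ^ m)) k,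
      torH θ hsq hP x * y = y * torH θ hsq hP x) : x = 1 := by
  obtain ⟨a, b⟩ := x
  have e0 := (chr_of_commute θ hsq hθ hP (a, b)).1 (h _)
  have e1 := (chr_of_commute θ hsq hθ hP (a, b)).2 (h _)
  rw [(chr_24_25 θ hθ a b).1] at e0
  rw [(chr_24_25 θ hθ a b).2] at e1
  have hb : b = a ^ (2 : ℤ) := by rw [zpow_neg_one, mul_inv_eq_one] at e0; exact e0.symm
  rw [hb, ← zpow_mul, ← zpow_add, show (-1 : ℤ) + 2 * (2 - 2 * 2 ^ m) = 3 + -4 * 2 ^ m by ring] at e1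
  have ha := exp_faithful θ hsq hθ (α := 3) (β := -4) (by decide) e1
  subst ha
  simpa using hb

/-- a regular element of the torus of each orbit -/
theorem regular (b : Kˣ) (hb : b ≠ 1) :
    (∀ r ∈ TF4.L TF4.o0, chr θ b 1 r ≠ 1) ∧ (∀ r ∈ TF4.L TF4.o1, chr θ 1 b r ≠ 1) := by
  refine ⟨fun r hr h => hb ?_, fun r hr h => hb ?_⟩
  · rw [chr_eq θ hθ, one_zpow, mul_one, add_comm, mul_comm ((2 : ℤ) ^ m)] at h
    exact exp_faithful θ hsq hθ (Tab.regular r hr) h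
  · rw [chr_eq θ hθ, one_zpow, one_mul, add_comm, mul_comm ((2 : ℤ) ^ m)] at h
    exact exp_faithful θ hsq hθ (Tab.regular' r hr) h

theorem S_le_LS (hm : 1 ≤ m) (hK : Fintype.card K = 2 ^ (2 * m + 1)) {x : Kˣ × Kˣ} :
    (torH θ hsq hP x ∈ TwEngine.Xg (TF4.orbits θ hsq) (twistedF4 K (2 ^ m)) TF4.o0 ⊔
        TwEngine.Xng hP TF4.o0 → x.2 = 1) ∧
      (torH θ hsq hP x ∈ TwEngine.Xg (TF4.orbits θ hsq) (twistedF4 K (2 ^ m)) TF4.o1 ⊔
        TwEngine.Xng hP TF4.o1 → x.1 = 1) := by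
  refine ⟨fun hx => ?_, fun hx => TF4Prime.par_fst θ hsq hθ hP hm hK hx (torH_val θ hsq hP x)⟩
  let g0 : SL(2, K) →* ↥(twistedF4 K (2 ^ m)) :=
    (TF4Prime.f0 θ).codRestrict _ (TF4Prime.f0_mem θ hsq hθ)
  have hL0 : TwEngine.Xg (TF4.orbits θ hsq) (twistedF4 K (2 ^ m)) TF4.o0 ⊔ TwEngine.Xng hP TF4.o0 ≤ g0.range := by
    refine TwEngine.L_le hP TF4.o0 ?_ (n0 := g0 (TwEngine.wF 1)) ⟨_, rfl⟩ (TF4Prime.f0_nperm θ hsq).1
      (TF4Prime.f0_nperm θ hsq).2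
    intro y hy
    obtain ⟨t, e⟩ := TF4.X_pair θ hsq (Subgroup.mem_subgroupOf.1 hy)
    exact ⟨CfsgLib.Lie.SL2Rel.Fam.upper t, Subtype.ext ((TF4Prime.f0_upper θ t).trans e.symm)⟩
  obtain ⟨s, hs⟩ := hL0 hx
  have hs' : TF4Prime.f0 θ s = TF4.C.G.torθ (TF4.par θ x.1 x.2) := congrArg Subtype.val hs
  obtain ⟨a, rfl⟩ := TF4Prime.f0_diag θ hsq (hs' ▸ TF4Prime.tor_mem _)
  rw [TF4Prime.f0_dg] at hs'
  exact (congrArg Prod.snd (torF_inj θ (a₁ := (a, 1)) (a₂ := x) hs')).symm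

end CfsgLib.Lie.GaussSquare
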