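import Cfsg.Agent.Lib.Lie.GaussSquare.Abstract
import Cfsg.Agent.Lib.Lie.GaussSquare.TF4Cover
import Cfsg.Agent.Lib.Lie.GaussSquare.TF4Faith

/-!
# The data of ²F₄(q), q ≥ 8
-/

set_option autoImplicit false
set_option maxRecDepth 100000
set_option linter.unusedSectionVars false

namespace CfsgLib.Lie.GaussSquare

open Cfsg.Lie CfsgLib.Lie.Chev
open CfsgLib.Lie.Mult
open scoped MatrixGroups

variable {K : Type*} [Field K] [CharP K 2] [Fintype K] (θ : K ≃+* K) (hsq : ∀ x, θ.symm x = θ x ^ 2)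
  {m : ℕ} (hθ : ∀ x, θ x = x ^ 2 ^ m) (hP : TwGp (TF4.orbits θ hsq) (twistedF4 K (2 ^ m)))
  (hm : 1 ≤ m) (hK : Fintype.card K = 2 ^ (2 * m + 1))

theorem nkG_ratio (k : Fin orbGraphF4.no) :
    (TwEngine.nE hP k)⁻¹ * TwEngine.nkG hP k ∈ TwEngine.Hg (TF4.twist θ hsq) (twistedF4 K (2 ^ m)) := by
  have := TwEngine.H_conj_N hP (a := (TwEngine.nE hP k)⁻¹) (inv_mem (TwEngine.nE_mon hP k).2)
    (TwEngine.nk_ratio hP k)
  rw [inv_inv] at this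
  simpa [mul_assoc] using this

theorem S_eq (k : Fin orbGraphF4.no) :
    TwEngine.Xg (TF4.orbits θ hsq) (twistedF4 K (2 ^ m)) k ⊔
        (TwEngine.Xg (TF4.orbits θ hsq) (twistedF4 K (2 ^ m)) k).map
          (MulAut.conj (TwEngine.nE hP k)).toMonoidHom =
      TwEngine.Xg (TF4.orbits θ hsq) (twistedF4 K (2 ^ m)) k ⊔ TwEngine.Xng hP k := by
  refine le_antisymm (sup_le le_sup_left ?_) (sup_le le_sup_left ?_)
  · rintro _ ⟨x, hx, rfl⟩
    exact mul_mem (mul_mem (TwEngine.nE_mem hP k) (Subgroup.mem_sup_left hx)) (inv_mem (TwEngine.nE_mem hP k))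
  · rintro _ ⟨x, hx, rfl⟩
    refine Subgroup.mem_sup_right ⟨_, TwEngine.H_conj_X hP (nkG_ratio θ hsq hP k) hx, ?_⟩
    show TwEngine.nE hP k * _ * (TwEngine.nE hP k)⁻¹ = TwEngine.nkG hP k * x * (TwEngine.nkG hP k)⁻¹
    group

theorem norm_of {k : Fin orbGraphF4.no} {a : ↥(twistedF4 K (2 ^ m))}
    (h1 : ∀ r ∈ TwEngine.Vg (TF4.orbits θ hsq) (twistedF4 K (2 ^ m)) k,
      a * r * a⁻¹ ∈ TwEngine.Vg (TF4.orbits θ hsq) (twistedF4 K (2 ^ m)) k)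
    (h2 : ∀ r ∈ TwEngine.Vg (TF4.orbits θ hsq) (twistedF4 K (2 ^ m)) k,
      a⁻¹ * r * a ∈ TwEngine.Vg (TF4.orbits θ hsq) (twistedF4 K (2 ^ m)) k) :
    a ∈ Subgroup.normalizer (TwEngine.Vg (TF4.orbits θ hsq) (twistedF4 K (2 ^ m)) k : Set _) :=
  Subgroup.mem_normalizer_iff.2 fun r => ⟨h1 r, fun h => by simpa [mul_assoc] using h2 _ h⟩

theorem S_norm (k : Fin orbGraphF4.no) :
    TwEngine.Xg (TF4.orbits θ hsq) (twistedF4 K (2 ^ m)) k ⊔
        (TwEngine.Xg (TF4.orbits θ hsq) (twistedF4 K (2 ^ m)) k).map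
          (MulAut.conj (TwEngine.nE hP k)).toMonoidHom ≤
      Subgroup.normalizer (TwEngine.Vg (TF4.orbits θ hsq) (twistedF4 K (2 ^ m)) k : Set _) := by
  have hX : ∀ x ∈ TwEngine.Xg (TF4.orbits θ hsq) (twistedF4 K (2 ^ m)) k,
      x ∈ Subgroup.normalizer (TwEngine.Vg (TF4.orbits θ hsq) (twistedF4 K (2 ^ m)) k : Set _) := fun x hx =>
    norm_of θ hsq (fun r hr => X_norm θ hsq hx hr) fun r hr => by
      simpa using X_norm θ hsq (inv_mem hx) hr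
  have hn : TwEngine.nE hP k ∈
      Subgroup.normalizer (TwEngine.Vg (TF4.orbits θ hsq) (twistedF4 K (2 ^ m)) k : Set _) := by
    refine norm_of θ hsq (TwEngine.V_norm hP k) fun r hr => ?_
    have h2 := inv_mem (TwEngine.sq_H hP k)
    have := H_norm θ hsq h2 (TwEngine.V_norm hP k r hr)
    simpa [mul_assoc] using this
  refine sup_le hX ?_
  rintro _ ⟨x, hx, rfl⟩
  exact mul_mem (mul_mem hn (hX x hx)) (inv_mem hn)

theorem S_norm' (k : Fin orbGraphF4.no) :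
    ∀ l ∈ TwEngine.Xg (TF4.orbits θ hsq) (twistedF4 K (2 ^ m)) k ⊔
        (TwEngine.Xg (TF4.orbits θ hsq) (twistedF4 K (2 ^ m)) k).map
          (MulAut.conj (TwEngine.nE hP k)).toMonoidHom,
      (n0 θ hsq hP)⁻¹ * l * n0 θ hsq hP ∈
        Subgroup.normalizer (TwEngine.Vg (TF4.orbits θ hsq) (twistedF4 K (2 ^ m)) k : Set _) := by
  set n := n0 θ hsq hP with hn
  set N := Subgroup.normalizer (TwEngine.Vg (TF4.orbits θ hsq) (twistedF4 K (2 ^ m)) k : Set ↥(twistedF4 K (2 ^ m)))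
  have hX : ∀ x ∈ TwEngine.Xg (TF4.orbits θ hsq) (twistedF4 K (2 ^ m)) k, n⁻¹ * x * n ∈ N := fun x hx => by
    refine S_norm θ hsq hP k (Subgroup.mem_sup_right ⟨_, (n0_to_n θ hsq hP hx).2.2, ?_⟩)
    show TwEngine.nE hP k * _ * (TwEngine.nE hP k)⁻¹ = _
    rw [hn, n0]
    group
  have hnE : n⁻¹ * TwEngine.nE hP k * n ∈ N := by
    obtain ⟨hπ, hN⟩ := n0_spec θ hsq hP
    have hperm : TF4.C.G.NPerm ((n⁻¹ * TwEngine.nE hP k * n : ↥(twistedF4 K (2 ^ m))) : GL chevF4.Idx K)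
        ((TF4.orbits θ hsq).wO k) := by
      have := Good.NPerm.mul TF4.C.G (Good.NPerm.mul TF4.C.G (Good.NPerm.inv TF4.C.G hπ) (TwEngine.nE_perm hP k)) hπ
      rw [π0_inv, π0_comm] at this
      simpa [Subgroup.coe_mul, Subgroup.coe_inv, hn, n0] using this
    have hmon : ((n⁻¹ * TwEngine.nE hP k * n : ↥(twistedF4 K (2 ^ m))) : GL chevF4.Idx K) ∈
        chevF4.monomialSubgroup K := by
      simp only [Subgroup.coe_mul, Subgroup.coe_inv]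
      exact mul_mem (mul_mem (inv_mem hN.2) (TwEngine.nE_mon hP k).2) hN.2
    refine norm_of θ hsq (fun r hr => perm_norm θ hsq hP hmon hperm hr) fun r hr => ?_
    have hperm' := Good.NPerm.inv TF4.C.G hperm
    rw [(TF4.orbits θ hsq).wO_inv] at hperm'
    have := perm_norm θ hsq hP (a := (n⁻¹ * TwEngine.nE hP k * n)⁻¹) (inv_mem hmon) hperm' hr
    simpa using this
  intro l hl
  have hle : TwEngine.Xg (TF4.orbits θ hsq) (twistedF4 K (2 ^ m)) k ⊔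
        (TwEngine.Xg (TF4.orbits θ hsq) (twistedF4 K (2 ^ m)) k).map
          (MulAut.conj (TwEngine.nE hP k)).toMonoidHom ≤ N.comap (MulAut.conj n⁻¹).toMonoidHom := by
    refine sup_le (fun x hx => by simpa using hX x hx) ?_
    rintro _ ⟨x, hx, rfl⟩
    show n⁻¹ * (TwEngine.nE hP k * x * (TwEngine.nE hP k)⁻¹) * n⁻¹⁻¹ ∈ N
    rw [show n⁻¹ * (TwEngine.nE hP k * x * (TwEngine.nE hP k)⁻¹) * n⁻¹⁻¹ =
      (n⁻¹ * TwEngine.nE hP k * n) * (n⁻¹ * x * n) * (n⁻¹ * TwEngine.nE hP k * n)⁻¹ by group]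
    exact mul_mem (mul_mem hnE (hX x hx)) (inv_mem hnE)
  have h := hle hl
  simpa using h

/-- the coroot torus of an orbit -/
noncomputable def Hc (k : Fin orbGraphF4.no) : Subgroup ↥(twistedF4 K (2 ^ m)) :=
  ((torH θ hsq hP).comp (if k = TF4.o0 then MonoidHom.inl Kˣ Kˣ else MonoidHom.inr Kˣ Kˣ)).range

theorem o_ne : (TF4.o1 : Fin orbGraphF4.no) ≠ TF4.o0 := by decide +kernel

theorem Hc0_iff {g : ↥(twistedF4 K (2 ^ m))} : g ∈ Hc θ hsq hP TF4.o0 ↔ ∃ a, torH θ hsq hP (a, 1) = g := by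
  rw [Hc, if_pos rfl]; rfl

theorem Hc1_iff {g : ↥(twistedF4 K (2 ^ m))} : g ∈ Hc θ hsq hP TF4.o1 ↔ ∃ b, torH θ hsq hP (1, b) = g := by
  rw [Hc, if_neg o_ne]; rfl

theorem Hc_le (k : Fin orbGraphF4.no) : Hc θ hsq hP k ≤ TwEngine.Hg (TF4.twist θ hsq) (twistedF4 K (2 ^ m)) := by
  rintro _ ⟨a, rfl⟩
  exact torH_mem θ hsq hP _

theorem card_units_odd (hm : 1 ≤ m) (hK : Fintype.card K = 2 ^ (2 * m + 1)) : Odd (Nat.card Kˣ) := by
  rw [Nat.card_units, Nat.card_eq_fintype_card, hK]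
  exact Nat.Even.sub_odd Nat.one_le_two_pow ((Nat.even_pow' (by omega)).2 even_two) odd_one

theorem Hc_inv (k : Fin orbGraphF4.no) {g : ↥(twistedF4 K (2 ^ m))} (hg : g ∈ Hc θ hsq hP k) :
    TwEngine.nE hP k * g * (TwEngine.nE hP k)⁻¹ = g⁻¹ := by
  have hmJ : ∀ j ∈ (TF4.orbits θ hsq).J k,
      TF4.C.G.pw ((TF4.orbits θ hsq).wl k) (TF4.C.G.simp' j) = TF4.C.G.negr (TF4.C.G.simp' j) := by
    intro j hj
    refine Fin.ext ?_
    rw [show (TF4.C.G.pw ((TF4.orbits θ hsq).wl k) (TF4.C.G.simp' j)).val = _ from TF4.wO_val θ hsq k _,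
      TF4.C.G.negr_val, TF4.C.G.simp_val]
    exact Tab.inv_simple k j hj
  obtain ⟨x, hx, rfl⟩ : ∃ x : Kˣ × Kˣ, (∀ i, i ∉ (TF4.orbits θ hsq).J k → TF4.par θ x.1 x.2 i = 1) ∧
      torH θ hsq hP x = g := by
    rcases TF4.o_cases k with rfl | rfl
    · obtain ⟨a, rfl⟩ := (Hc0_iff θ hsq hP).1 hg
      refine ⟨(a, 1), fun i hi => ?_, rfl⟩
      obtain ⟨u0, u1, u2, u3⟩ := TF4.par_vals θ a (1 : Kˣ)
      rcases (Tab.outside i).1 hi with rfl | rfl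
      · rw [u1, map_one]
      · exact u2
    · obtain ⟨b, rfl⟩ := (Hc1_iff θ hsq hP).1 hg
      refine ⟨(1, b), fun i hi => ?_, rfl⟩
      obtain ⟨u0, u1, u2, u3⟩ := TF4.par_vals θ (1 : Kˣ) b
      rcases (Tab.outside i).2 hi with rfl | rfl
      · rw [u0, map_one]
      · exact u3
  refine Subtype.ext ?_
  simp only [Subgroup.coe_mul, Subgroup.coe_inv, torH_val]
  exact inverts TF4.C hmJ (fun i hi => (TF4.orbits θ hsq).wl_mem k i hi) (TwEngine.nE_mon hP k).2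
    (TwEngine.nE_perm hP k) hx

include hθ hm hK

theorem exists_ne_one : ∃ a : Kˣ, ∃ b : Kˣ, a ≠ 1 ∧ b ≠ 1 ∧ a ≠ b := by
  classical
  have h7 : 7 ≤ Fintype.card Kˣ := by
    rw [Fintype.card_units, hK]
    have : 2 ^ 3 ≤ 2 ^ (2 * m + 1) := Nat.pow_le_pow_right (by norm_num) (by omega)
    omega
  have : 1 < (Finset.univ.erase (1 : Kˣ)).card := by
    rw [Finset.card_erase_of_mem (Finset.mem_univ _), Finset.card_univ]; omega
  obtain ⟨a, ha, b, hb, hab⟩ := Finset.one_lt_card.1 this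
  exact ⟨a, b, Finset.ne_of_mem_erase ha, Finset.ne_of_mem_erase hb, hab⟩

/-- the datum -/
noncomputable def datum : Datum ↥(twistedF4 K (2 ^ m)) (Fin orbGraphF4.no) where
  U := TwEngine.Ug (TF4.twist θ hsq) (twistedF4 K (2 ^ m))
  H := TwEngine.Hg (TF4.twist θ hsq) (twistedF4 K (2 ^ m))
  n0 := n0 θ hsq hP
  n := TwEngine.nE hP
  X := TwEngine.Xg (TF4.orbits θ hsq) (twistedF4 K (2 ^ m))
  R := TwEngine.Vg (TF4.orbits θ hsq) (twistedF4 K (2 ^ m))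
  Hc := Hc θ hsq hP
  k0 := TF4.o0
  k1 := TF4.o1
  cases := TF4.o_cases
  hcover := cover θ hsq hP hm hK
  uniq _ hv _ hh _ hu e := uniq θ hsq hP hv hh hu e
  H_comm a ha b hb := Subtype.ext (TF4.C.G.diagonal_comm (Subgroup.mem_inf.1 (Subgroup.mem_subgroupOf.1 ha)).2
    (Subgroup.mem_inf.1 (Subgroup.mem_subgroupOf.1 hb)).2)
  H_U _ hh _ hu := TwEngine.H_conj_U hP hh hu
  H_n0 _ hh := (n0_conj_H θ hsq hP hh).1
  H_n k _ hh := TwEngine.H_conj_N hP (TwEngine.nE_mon hP k).2 hh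
  n_sq := TwEngine.sq_H hP
  H_X _ _ hh _ hx := TwEngine.H_conj_X hP hh hx
  H_R _ _ hh _ hr := H_norm θ hsq hh hr
  X_le := TwEngine.X_le_U hP
  R_le := TwEngine.V_le_U hP
  U_split := TwEngine.U_split hP
  V_split k u hu := by
    obtain ⟨x, hx, r, hr, e⟩ := TwEngine.U_split hP k u⁻¹ (inv_mem hu)
    refine ⟨r⁻¹, inv_mem hr, _, (n0_to_n θ hsq hP (inv_mem hx)).1, ?_⟩
    rw [← inv_inv u, e, n0]
    group
  X_opp k x hx := by
    refine ⟨_, TwEngine.X_le_U hP k (n0_to_n θ hsq hP hx).2.1, ?_⟩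
    rw [n0]
    group
  n_mem k := by rw [S_eq θ hsq hP k]; exact TwEngine.nE_mem hP k
  L_decomp k g hg := by
    rcases TwEngine.L_decomp hP k g (S_eq θ hsq hP k ▸ hg) with ⟨x, hx, h, hh, e⟩ | ⟨x, hx, h, hh, x', hx', e⟩
    · exact Or.inl ⟨x, hx, h, (Subgroup.mem_inf.1 hh).1, e⟩
    · exact Or.inr ⟨x, hx, h, (Subgroup.mem_inf.1 hh).1, x', hx', e⟩
  L_R k l hl r hr := (Subgroup.mem_normalizer_iff.1 (S_norm θ hsq hP k hl) r).1 hr
  L_Q k l hl r hr := ⟨_, (Subgroup.mem_normalizer_iff.1 (S_norm' θ hsq hP k l hl) r).1 hr, by group⟩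
  X_regular k x hx hc := by
    obtain ⟨b, -, hb, -, -⟩ := exists_ne_one θ hθ hm hK
    obtain ⟨hxF, hxU⟩ := Subgroup.mem_inf.1 (Subgroup.mem_subgroupOf.1 hx)
    obtain ⟨z, hz⟩ : ∃ z : Kˣ × Kˣ, ∀ r ∈ TF4.L k, chr θ z.1 z.2 r ≠ 1 := by
      rcases TF4.o_cases k with rfl | rfl
      · exact ⟨(b, 1), (regular θ hsq hθ b hb).1⟩
      · exact ⟨(1, b), (regular θ hsq hθ b hb).2⟩
    have e := congrArg Subtype.val (hc _ (torH_mem θ hsq hP z))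
    simp only [Subgroup.coe_mul, torH_val] at e
    have h1 := fixed_U TF4.C (fun r => (chr θ z.1 z.2 r : K)) (fun r a => tor_conj θ z.1 z.2 r a)
      (fun r => chevF4.IsPosRoot ((TF4.orbits θ hsq).wO k r).val) (fun r hr hn h => hz r (by
        rw [← TF4.L_eq θ hsq k]
        exact List.mem_filter.2 ⟨List.mem_finRange _, by simpa using ⟨hr, hn⟩⟩) (Units.ext h))
      (TF4.C.G.Uinv_le _ hxU) e
    exact Subtype.ext (Subgroup.mem_bot.1
      (TF4.C.G.Ukeep_inf_Uinv (TwEngine.nE_perm hP k) ▸ Subgroup.mem_inf.2 ⟨h1, hxU⟩))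
  X_ne k := by
    obtain ⟨x, hx, hx1⟩ := hP.X_ne k
    exact ⟨⟨x, hP.toPre.X_le k hx⟩, Subgroup.mem_subgroupOf.2 hx, fun e => hx1 (congrArg Subtype.val e)⟩
  Hc_le := Hc_le θ hsq hP
  Hc_inv k _ hg := Hc_inv θ hsq hP k hg
  Hc_odd k := by
    rw [Hc, ← Nat.card_congr (MonoidHom.ofInjective ?_).toEquiv]
    · exact card_units_odd hm hK
    · intro a b e
      have := torH_inj θ hsq hP e
      split_ifs at this
      · exact congrArg Prod.fst this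
      · exact congrArg Prod.snd this
  S_H k h hh hS := by
    rw [S_eq θ hsq hP k] at hS
    obtain ⟨x, rfl⟩ := torH_surj θ hsq hP hh
    rcases TF4.o_cases k with rfl | rfl
    · exact (Hc0_iff θ hsq hP).2 ⟨x.1, by rw [← (S_le_LS θ hsq hθ hP hm hK).1 hS]⟩
    · exact (Hc1_iff θ hsq hP).2 ⟨x.2, by rw [← (S_le_LS θ hsq hθ hP hm hK).2 hS]⟩
  H_split h hh := by
    obtain ⟨x, rfl⟩ := torH_surj θ hsq hP hh
    refine ⟨_, (Hc0_iff θ hsq hP).2 ⟨x.1, rfl⟩, _, (Hc1_iff θ hsq hP).2 ⟨x.2, rfl⟩, ?_⟩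
    rw [← map_mul, Prod.mk_mul_mk, mul_one, one_mul]
  Hc_inf g h0 h1 := by
    obtain ⟨a, rfl⟩ := (Hc0_iff θ hsq hP).1 h0
    obtain ⟨b, hb⟩ := (Hc1_iff θ hsq hP).1 h1
    rw [← hb, ← show (1 : Kˣ) = b from congrArg Prod.snd (torH_inj θ hsq hP hb).symm]
    exact map_one (torH θ hsq hP)
  Hc0_ne := by
    obtain ⟨a, -, ha, -, -⟩ := exists_ne_one θ hθ hm hK
    exact ⟨_, (Hc0_iff θ hsq hP).2 ⟨a, rfl⟩, fun e => ha (congrArg Prod.fst
      (torH_inj θ hsq hP (e.trans (map_one _).symm)))⟩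
  Hc1_three := by
    obtain ⟨a, b, ha, hb, hab⟩ := exists_ne_one θ hθ hm hK
    exact ⟨_, (Hc1_iff θ hsq hP).2 ⟨a, rfl⟩, _, (Hc1_iff θ hsq hP).2 ⟨b, rfl⟩,
      fun e => ha (congrArg Prod.snd (torH_inj θ hsq hP (e.trans (map_one _).symm))),
      fun e => hb (congrArg Prod.snd (torH_inj θ hsq hP (e.trans (map_one _).symm))),
      fun e => hab (congrArg Prod.snd (torH_inj θ hsq hP e))⟩
  Hc0_faith g hg hc := by
    obtain ⟨a, rfl⟩ := (Hc0_iff θ hsq hP).1 hg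
    rw [faith0 θ hsq hθ hP a hc, ← Prod.one_eq_mk, map_one]
  Hc1_faith g hg hc := by
    obtain ⟨b, rfl⟩ := (Hc1_iff θ hsq hP).1 hg
    rw [faith1 θ hsq hθ hP b hc, ← Prod.one_eq_mk, map_one]
  H_faith h hh hc := by
    obtain ⟨x, rfl⟩ := torH_surj θ hsq hP hh
    rw [faith θ hsq hθ hP x hc, map_one]
  n0_word := ⟨Tab.w0, rfl⟩

end CfsgLib.Lie.GaussSquare
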