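import Cfsg.Agent.Lib.Lie.GaussSquare.Torus
import Cfsg.Agent.Lib.Lie.Mult.TwEngine

/-!
# Root subgroups, radicals and Weyl elements of ²F₄
-/

set_option autoImplicit false
set_option maxRecDepth 100000
set_option linter.unusedSectionVars false

namespace CfsgLib.Lie.GaussSquare

open Cfsg.Lie CfsgLib.Lie.Chev
open CfsgLib.Lie.Mult
open scoped MatrixGroups

variable {K : Type*} [Field K] [CharP K 2] (θ : K ≃+* K) (hsq : ∀ x, θ.symm x = θ x ^ 2)

include hsq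

theorem list_val (l : List (Fin orbGraphF4.no)) (r : Fin chevF4.nroots) :
    ((l.map (TF4.orbits θ hsq).wO).prod r).val = Tab.run l r.val := by
  induction l with
  | nil => rfl
  | cons k l ih => rw [List.map_cons, List.prod_cons, Equiv.Perm.mul_apply, TF4.wO_val, ih]; rfl

theorem wO_run (k : Fin orbGraphF4.no) (r : Fin chevF4.nroots) :
    ((TF4.orbits θ hsq).wO k r).val = Tab.run [k] r.val := by
  rw [← list_val θ hsq]; simp

omit hsq

/-- the longest element on the roots -/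
noncomputable def π0 : Equiv.Perm (Fin chevF4.nroots) := (Tab.w0.map (TF4.orbits θ hsq).wO).prod

include hsq

theorem π0_val (r : Fin chevF4.nroots) : (π0 θ hsq r).val = Tab.run Tab.w0 r.val := list_val θ hsq _ r

theorem π0_sq : π0 θ hsq * π0 θ hsq = 1 := by
  refine Equiv.ext fun r => Fin.ext ?_
  rw [π0, ← List.prod_append, ← List.map_append, list_val, Equiv.Perm.one_apply]
  exact Tab.w0_sq r.val r.isLt

theorem π0_inv : (π0 θ hsq)⁻¹ = π0 θ hsq := inv_eq_of_mul_eq_one_right (π0_sq θ hsq)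

theorem π0_comm (k : Fin orbGraphF4.no) :
    π0 θ hsq * (TF4.orbits θ hsq).wO k * π0 θ hsq = (TF4.orbits θ hsq).wO k := by
  refine Equiv.ext fun r => Fin.ext ?_
  have e : π0 θ hsq * (TF4.orbits θ hsq).wO k * π0 θ hsq =
      ((Tab.w0 ++ k :: Tab.w0).map (TF4.orbits θ hsq).wO).prod := by
    rw [List.map_append, List.map_cons, List.prod_append, List.prod_cons, mul_assoc]; rfl
  rw [e, list_val, wO_run]
  exact Tab.w0_comm k r.val r.isLt

theorem π0_neg {r : Fin chevF4.nroots} (hr : chevF4.IsPosRoot r.val) :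
    ¬ chevF4.IsPosRoot (π0 θ hsq r).val := by
  rw [π0_val]
  exact (Tab.w0_pos r.val r.isLt).1 hr

theorem Uinv_π0 : (Uinv TF4.C.G (π0 θ hsq) : Subgroup (GL chevF4.Idx K)) = chevF4.posUnipotent K := by
  refine le_antisymm (TF4.C.G.Uinv_le _) ?_
  rw [TF4.C.G.posUnipotent_eq_closure]
  refine Subgroup.closure_mono ?_
  rintro x ⟨r, t, hr, hx⟩
  exact ⟨r, t, ⟨hr, π0_neg θ hsq hr⟩, hx⟩

theorem xu_conj_Ukeep {k : Fin orbGraphF4.no} {x u : GL chevF4.Idx K}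
    (hx : x ∈ (Uinv TF4.C.G ((TF4.orbits θ hsq).wO k) : Subgroup (GL chevF4.Idx K)))
    (hu : u ∈ (Ukeep TF4.C.G ((TF4.orbits θ hsq).wO k) : Subgroup (GL chevF4.Idx K))) :
    x * u * x⁻¹ ∈ (Ukeep TF4.C.G ((TF4.orbits θ hsq).wO k) : Subgroup (GL chevF4.Idx K)) := by
  set R : Subgroup (GL chevF4.Idx K) := Ukeep TF4.C.G ((TF4.orbits θ hsq).wO k)
  have step : ∀ a : Fin chevF4.nroots, a ∈ TF4.L k → ∀ s : K, ∀ v ∈ R,
      TF4.C.G.xu a s * v * (TF4.C.G.xu a s)⁻¹ ∈ R := by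
    intro a ha s v hv
    have hle : R ≤ R.comap (MulAut.conj (TF4.C.G.xu a s)).toMonoidHom := by
      refine (Subgroup.closure_le _).2 ?_
      rintro _ ⟨b, t, ⟨hb, hbk⟩, rfl⟩
      rw [wO_run] at hbk
      obtain ⟨h1, h2, h3⟩ := Tab.keep_closed k a.val (List.mem_map.2 ⟨a, ha, rfl⟩) b.val b.isLt hb hbk
      have h := xu_conj_mem TF4.C (fun r => chevF4.IsPosRoot ((TF4.orbits θ hsq).wO k r).val)
        (a := a) (b := b) (by rw [wO_run]; exact hbk) hb h1 h2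
        (fun z hz hlt => ⟨(h3 z hz hlt).1, by rw [wO_run]; exact (h3 z hz hlt).2⟩) (-s) t
      show TF4.C.G.xu a s * TF4.C.G.xu b t * (TF4.C.G.xu a s)⁻¹ ∈ R
      rwa [← TF4.C.G.xu_inv, inv_inv] at h
    exact hle hv
  have hX : ∀ v ∈ R, x * v * x⁻¹ ∈ R ∧ x⁻¹ * v * x ∈ R := by
    clear hu
    induction hx using Subgroup.closure_induction with
    | one => intro v hv; simpa using hv
    | mem y hy =>
      obtain ⟨a, s, ha, rfl⟩ := hy
      have haL : a ∈ TF4.L k := by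
        rw [← TF4.L_eq θ hsq k]
        exact List.mem_filter.2 ⟨List.mem_finRange _, by simpa using ha⟩
      intro v hv
      refine ⟨step a haL s v hv, ?_⟩
      have := step a haL (-s) v hv
      rwa [← TF4.C.G.xu_inv, inv_inv] at this
    | mul p q _ _ hp hq =>
      intro v hv
      refine ⟨?_, ?_⟩
      · rw [show p * q * v * (p * q)⁻¹ = p * (q * v * q⁻¹) * p⁻¹ by group]
        exact (hp _ (hq v hv).1).1
      · rw [show (p * q)⁻¹ * v * (p * q) = q⁻¹ * (p⁻¹ * v * p) * q by group]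
        exact (hq _ (hp v hv).2).2
    | inv p _ hp => intro v hv; rw [inv_inv]; exact ⟨(hp v hv).2, (hp v hv).1⟩
  exact (hX u hu).1

section

variable {e : ℕ} (hP : TwGp (TF4.orbits θ hsq) (twistedF4 K e))

omit hsq in
/-- the torus of the group -/
noncomputable def tor (x : Kˣ × Kˣ) : ↥(twistedF4 K e) :=
  ⟨torF θ x, hP.H_le ((TF4.twist θ hsq).torθ_mem_Fix (TF4.par_fixed θ hsq x.1 x.2))⟩

omit hsq in
/-- the torus map into the group -/
noncomputable def torH : Kˣ × Kˣ →* ↥(twistedF4 K e) where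
  toFun := tor θ hsq hP
  map_one' := Subtype.ext (map_one (torF θ))
  map_mul' x y := Subtype.ext (map_mul (torF θ) x y)

theorem torH_val (x : Kˣ × Kˣ) : (torH θ hsq hP x : GL chevF4.Idx K) = TF4.C.G.torθ (TF4.par θ x.1 x.2) := rfl

theorem torH_mem (x : Kˣ × Kˣ) : torH θ hsq hP x ∈ TwEngine.Hg (TF4.twist θ hsq) (twistedF4 K e) :=
  Subgroup.mem_subgroupOf.2 ((TF4.twist θ hsq).torθ_mem_Fix (TF4.par_fixed θ hsq x.1 x.2))

theorem torH_surj {h : ↥(twistedF4 K e)} (hh : h ∈ TwEngine.Hg (TF4.twist θ hsq) (twistedF4 K e)) :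
    ∃ x, torH θ hsq hP x = h := by
  obtain ⟨a, b, e⟩ := TF4.exists_par θ hsq (Subgroup.mem_subgroupOf.1 hh)
  exact ⟨(a, b), Subtype.ext e.symm⟩

theorem torH_inj : Function.Injective (torH θ hsq hP) := fun x y e => torF_inj θ (congrArg Subtype.val e)

theorem tor_commute_iff {x : Kˣ × Kˣ} {r : Fin chevF4.nroots} :
    chr θ x.1 x.2 r = 1 → ∀ t, Commute (torF θ x) (TF4.C.G.xu r t) := fun h t => by
  have := tor_conj θ x.1 x.2 r t
  rw [h, Units.val_one, one_mul, mul_inv_eq_iff_eq_mul] at this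
  exact this

variable {k : Fin orbGraphF4.no}

include hP in
theorem perm_norm {a : ↥(twistedF4 K e)} (ha : (a : GL chevF4.Idx K) ∈ chevF4.monomialSubgroup K)
    (hπ : TF4.C.G.NPerm (a : GL chevF4.Idx K) ((TF4.orbits θ hsq).wO k)) {r : ↥(twistedF4 K e)}
    (hr : r ∈ TwEngine.Vg (TF4.orbits θ hsq) (twistedF4 K e) k) :
    a * r * a⁻¹ ∈ TwEngine.Vg (TF4.orbits θ hsq) (twistedF4 K e) k := by
  have haF := hP.le a.2
  obtain ⟨hrF, hrU⟩ := Subgroup.mem_inf.1 (Subgroup.mem_subgroupOf.1 hr)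
  refine Subgroup.mem_subgroupOf.2 (Subgroup.mem_inf.2 ⟨mul_mem (mul_mem haF hrF) (inv_mem haF), ?_⟩)
  refine TF4.C.mem_Ukeep_of_conj hπ (TF4.C.G.conj_Ukeep hπ _ hrU) ?_
  have hH : (a : GL chevF4.Idx K) * a ∈ chevF4.diagonalSubgroup K := by
    refine TF4.C.G.mem_H_of_nPerm_one (mul_mem ha ha) ?_
    have := Good.NPerm.mul TF4.C.G hπ hπ
    rwa [(TF4.orbits θ hsq).wO_mul_self] at this
  have := (Subgroup.mem_normalizer_iff.1 (TF4.C.G.H_normalizes_U (K := K) hH) _).1 (TF4.C.G.Ukeep_le _ hrU)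
  simpa [mul_assoc] using this

theorem X_norm {x r : ↥(twistedF4 K e)} (hx : x ∈ TwEngine.Xg (TF4.orbits θ hsq) (twistedF4 K e) k)
    (hr : r ∈ TwEngine.Vg (TF4.orbits θ hsq) (twistedF4 K e) k) :
    x * r * x⁻¹ ∈ TwEngine.Vg (TF4.orbits θ hsq) (twistedF4 K e) k := by
  obtain ⟨hxF, hxU⟩ := Subgroup.mem_inf.1 (Subgroup.mem_subgroupOf.1 hx)
  obtain ⟨hrF, hrU⟩ := Subgroup.mem_inf.1 (Subgroup.mem_subgroupOf.1 hr)
  exact Subgroup.mem_subgroupOf.2 (Subgroup.mem_inf.2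
    ⟨mul_mem (mul_mem hxF hrF) (inv_mem hxF), xu_conj_Ukeep θ hsq hxU hrU⟩)

theorem H_norm {h r : ↥(twistedF4 K e)} (hh : h ∈ TwEngine.Hg (TF4.twist θ hsq) (twistedF4 K e))
    (hr : r ∈ TwEngine.Vg (TF4.orbits θ hsq) (twistedF4 K e) k) :
    h * r * h⁻¹ ∈ TwEngine.Vg (TF4.orbits θ hsq) (twistedF4 K e) k := by
  obtain ⟨hhF, hhD⟩ := Subgroup.mem_inf.1 (Subgroup.mem_subgroupOf.1 hh)
  obtain ⟨hrF, hrU⟩ := Subgroup.mem_inf.1 (Subgroup.mem_subgroupOf.1 hr)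
  exact Subgroup.mem_subgroupOf.2 (Subgroup.mem_inf.2 ⟨mul_mem (mul_mem hhF hrF) (inv_mem hhF),
    (Subgroup.mem_normalizer_iff.1 (TF4.C.G.H_le_normalizer (K := K) (fun r => chevF4.IsPosRoot r.val ∧
      chevF4.IsPosRoot ((TF4.orbits θ hsq).wO k r).val) hhD) _).1 hrU⟩)

/-- the longest element inside the group -/
theorem n0_spec :
    TF4.C.G.NPerm (((Tab.w0.map (TwEngine.nE hP)).prod : ↥(twistedF4 K e)) : GL chevF4.Idx K) (π0 θ hsq) ∧
      (((Tab.w0.map (TwEngine.nE hP)).prod : ↥(twistedF4 K e)) : GL chevF4.Idx K) ∈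
        (TF4.twist θ hsq).Fix ⊓ chevF4.monomialSubgroup K :=
  TwEngine.list_nperm hP Tab.w0

theorem n0_U {v : ↥(twistedF4 K e)} (hv : v ∈ TwEngine.Ug (TF4.twist θ hsq) (twistedF4 K e)) :
    (((Tab.w0.map (TwEngine.nE hP)).prod * v * (Tab.w0.map (TwEngine.nE hP)).prod⁻¹ : ↥(twistedF4 K e)) :
      GL chevF4.Idx K) ∈ chevF4.negUnipotent K := by
  simp only [Subgroup.coe_mul, Subgroup.coe_inv]
  refine TF4.C.G.conj_Uinv (n0_spec θ hsq hP).1 _ ?_
  rw [Uinv_π0]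
  exact (Subgroup.mem_inf.1 (Subgroup.mem_subgroupOf.1 hv)).2

include hP in
/-- a monomial element sending the root subgroup of an orbit to itself -/
theorem map_X_self {a : ↥(twistedF4 K e)} {l : List (Fin orbGraphF4.no)}
    (haπ : TF4.C.G.NPerm (a : GL chevF4.Idx K) (l.map (TF4.orbits θ hsq).wO).prod)
    (hl : ∀ r < chevF4.nroots, chevF4.IsPosRoot r → ¬ chevF4.IsPosRoot (Tab.run [k] r) →
      chevF4.IsPosRoot (Tab.run l r) ∧ ¬ chevF4.IsPosRoot (Tab.run [k] (Tab.run l r)))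
    {x : ↥(twistedF4 K e)} (hx : x ∈ TwEngine.Xg (TF4.orbits θ hsq) (twistedF4 K e) k) :
    a * x * a⁻¹ ∈ TwEngine.Xg (TF4.orbits θ hsq) (twistedF4 K e) k := by
  refine TwEngine.map_X hP (hP.le a.2) haπ (fun r hr hn => ?_) hx
  rw [wO_run] at hn
  rw [wO_run, list_val]
  exact hl r.val r.isLt hr hn

theorem n0_to_n {x : ↥(twistedF4 K e)} (hx : x ∈ TwEngine.Xg (TF4.orbits θ hsq) (twistedF4 K e) k) :
    ((TwEngine.nE hP k)⁻¹ * (Tab.w0.map (TwEngine.nE hP)).prod) * x *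
        ((TwEngine.nE hP k)⁻¹ * (Tab.w0.map (TwEngine.nE hP)).prod)⁻¹ ∈
          TwEngine.Xg (TF4.orbits θ hsq) (twistedF4 K e) k ∧
      ((Tab.w0.map (TwEngine.nE hP)).prod⁻¹ * TwEngine.nE hP k) * x *
        ((Tab.w0.map (TwEngine.nE hP)).prod⁻¹ * TwEngine.nE hP k)⁻¹ ∈
          TwEngine.Xg (TF4.orbits θ hsq) (twistedF4 K e) k ∧
      ((TwEngine.nE hP k)⁻¹ * (Tab.w0.map (TwEngine.nE hP)).prod⁻¹) * x *
        ((TwEngine.nE hP k)⁻¹ * (Tab.w0.map (TwEngine.nE hP)).prod⁻¹)⁻¹ ∈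
          TwEngine.Xg (TF4.orbits θ hsq) (twistedF4 K e) k := by
  obtain ⟨hn0, -⟩ := n0_spec θ hsq hP
  have hk := TwEngine.nE_perm hP k
  have h1 : ∀ r < chevF4.nroots, chevF4.IsPosRoot r → ¬ chevF4.IsPosRoot (Tab.run [k] r) →
      chevF4.IsPosRoot (Tab.run (k :: Tab.w0) r) ∧ ¬ chevF4.IsPosRoot (Tab.run [k] (Tab.run (k :: Tab.w0) r)) :=
    fun r h h' h'' => (Tab.map_inv k r h h' h'').1
  have h2 : ∀ r < chevF4.nroots, chevF4.IsPosRoot r → ¬ chevF4.IsPosRoot (Tab.run [k] r) →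
      chevF4.IsPosRoot (Tab.run (Tab.w0 ++ [k]) r) ∧
        ¬ chevF4.IsPosRoot (Tab.run [k] (Tab.run (Tab.w0 ++ [k]) r)) :=
    fun r h h' h'' => (Tab.map_inv k r h h' h'').2
  refine ⟨map_X_self θ hsq hP (l := k :: Tab.w0) ?_ h1 hx, map_X_self θ hsq hP (l := Tab.w0 ++ [k]) ?_ h2 hx,
    map_X_self θ hsq hP (l := k :: Tab.w0) ?_ h1 hx⟩ <;>
    simp only [Subgroup.coe_mul, Subgroup.coe_inv]
  · have := Good.NPerm.mul TF4.C.G (Good.NPerm.inv TF4.C.G hk) hn0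
    rwa [(TF4.orbits θ hsq).wO_inv] at this
  · have := Good.NPerm.mul TF4.C.G (Good.NPerm.inv TF4.C.G hn0) hk
    rw [π0_inv] at this
    simpa [List.map_append, List.prod_append, π0] using this
  · have := Good.NPerm.mul TF4.C.G (Good.NPerm.inv TF4.C.G hk) (Good.NPerm.inv TF4.C.G hn0)
    rwa [π0_inv, (TF4.orbits θ hsq).wO_inv] at this

end

end CfsgLib.Lie.GaussSquare
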