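import Cfsg.Agent.Lib.Lie.Chev.Tw.F4

/-!
# Finite checks on the roots of F₄
-/

set_option autoImplicit false
set_option maxRecDepth 100000
set_option maxHeartbeats 1000000

namespace CfsgLib.Lie.GaussSquare.Tab

open Cfsg.Lie CfsgLib.Lie.Chev

/-- the word of the longest element in the two orbit elements -/
noncomputable def w0 : List (Fin orbGraphF4.no) :=
  [TF4.o0, TF4.o1, TF4.o0, TF4.o1, TF4.o0, TF4.o1, TF4.o0, TF4.o1]

/-- the table of a word in the orbit elements -/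
noncomputable def run (l : List (Fin orbGraphF4.no)) (r : ℕ) : ℕ :=
  l.foldr (fun k x => digit (orbGraphF4.tab.get k.val) x) r

theorem w0_pos : ∀ r < chevF4.nroots, chevF4.IsPosRoot r ↔ ¬ chevF4.IsPosRoot (run w0 r) := by
  decide +kernel

theorem w0_sq : ∀ r < chevF4.nroots, run (w0 ++ w0) r = r := by decide +kernel

theorem w0_comm : ∀ k : Fin orbGraphF4.no, ∀ r < chevF4.nroots, run (w0 ++ k :: w0) r = run [k] r := by
  decide +kernel

/-- the inversion set of an orbit element -/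
def InvSet (k : Fin orbGraphF4.no) (r : ℕ) : Prop :=
  chevF4.IsPosRoot r ∧ ¬ chevF4.IsPosRoot (run [k] r)

theorem map_inv : ∀ k : Fin orbGraphF4.no, ∀ r < chevF4.nroots, chevF4.IsPosRoot r →
    ¬ chevF4.IsPosRoot (run [k] r) →
    (chevF4.IsPosRoot (run (k :: w0) r) ∧ ¬ chevF4.IsPosRoot (run [k] (run (k :: w0) r))) ∧
      (chevF4.IsPosRoot (run (w0 ++ [k]) r) ∧ ¬ chevF4.IsPosRoot (run [k] (run (w0 ++ [k]) r))) := by
  decide +kernel

theorem keep_closed : ∀ k : Fin orbGraphF4.no, ∀ a ∈ (TF4.L k).map Fin.val, ∀ b < chevF4.nroots,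
    chevF4.IsPosRoot b → chevF4.IsPosRoot (run [k] b) →
      b ≠ a ∧ b ≠ chevF4.neg a ∧ ∀ z ∈ chevF4.commTerms a b, z.1 < chevF4.nroots →
        chevF4.IsPosRoot z.1 ∧ chevF4.IsPosRoot (run [k] z.1) := by
  decide +kernel

/-- the rational part of the exponent of the central torus at a root -/
def al (r : Fin chevF4.nroots) : ℤ :=
  cart chevF4 (TF4.nd 2) r + 2 * cart chevF4 (TF4.nd 3) r - cart chevF4 (TF4.nd 0) r

/-- the irrational part of the exponent of the central torus at a root -/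
def be (r : Fin chevF4.nroots) : ℤ :=
  2 * cart chevF4 (TF4.nd 0) r + cart chevF4 (TF4.nd 1) r - 2 * cart chevF4 (TF4.nd 3) r

/-- the possible values of the norm -/
def Unit2 (n : ℤ) : Prop := n.natAbs ∈ [1, 2, 4, 8, 16, 32, 64, 128]

instance : DecidablePred Unit2 := fun n => by unfold Unit2; infer_instance

theorem exps : ∀ r : Fin chevF4.nroots,
    ((∀ m : Fin chevF4.rank, m ∉ orbGraphF4.nodes chevF4 TF4.o1 → TF4.C.G.rho r m = 0) →
        al r = 0 ∧ be r = 0) ∧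
      (chevF4.IsPosRoot r.val → chevF4.IsPosRoot (run [TF4.o1] r.val) →
        Unit2 (2 * al r ^ 2 - be r ^ 2) ∧ Unit2 (2 * al ⟨run w0 r.val % chevF4.nroots, Nat.mod_lt _ r.pos⟩ ^ 2 -
          be ⟨run w0 r.val % chevF4.nroots, Nat.mod_lt _ r.pos⟩ ^ 2)) := by
  decide +kernel

theorem regular : ∀ r ∈ TF4.L TF4.o0, Unit2 (2 * cart chevF4 (TF4.nd 3) r ^ 2 - cart chevF4 (TF4.nd 0) r ^ 2) := by
  decide +kernel

theorem regular' : ∀ r ∈ TF4.L TF4.o1, Unit2 (2 * cart chevF4 (TF4.nd 2) r ^ 2 - cart chevF4 (TF4.nd 1) r ^ 2) := by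
  decide +kernel

theorem rows : [TF4.rt 24, TF4.rt 25].map (fun r => [TF4.nd 0, TF4.nd 1, TF4.nd 2, TF4.nd 3].map fun i =>
    cart chevF4 i r) = [[0, 0, -1, 2], [0, -2, 2, -1]] := by
  decide +kernel

theorem inv_simple : ∀ o : Fin orbGraphF4.no, ∀ j ∈ orbGraphF4.nodes chevF4 o,
    digit (orbGraphF4.tab.get o.val) (chevF4.simple j.val) = chevF4.neg (chevF4.simple j.val) := by
  decide +kernel

theorem outside : ∀ i : Fin chevF4.rank,
    (i ∉ orbGraphF4.nodes chevF4 TF4.o0 → i = TF4.nd 1 ∨ i = TF4.nd 2) ∧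
      (i ∉ orbGraphF4.nodes chevF4 TF4.o1 → i = TF4.nd 0 ∨ i = TF4.nd 3) := by
  decide +kernel

end CfsgLib.Lie.GaussSquare.Tab
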