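import Cfsg.Agent.Lib.Lie.GaussSquare.Tables
import Cfsg.Agent.Lib.Lie.GaussSquare.Chev
import Cfsg.Agent.Lib.Lie.Chev.Tw.F4Gp

/-!
# The torus of ²F₄ and its characters
-/

set_option autoImplicit false
set_option maxRecDepth 100000
set_option linter.unusedSectionVars false

namespace CfsgLib.Lie.GaussSquare

open Cfsg.Lie CfsgLib.Lie.Chev
open scoped MatrixGroups

variable {K : Type*} [Field K] [CharP K 2] (θ : K ≃+* K) (hsq : ∀ x, θ.symm x = θ x ^ 2)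

/-- the torus character of a root -/
noncomputable def chr (a b : Kˣ) (r : Fin chevF4.nroots) : Kˣ := ∏ i, TF4.par θ a b i ^ cart chevF4 i r

theorem tor_conj (a b : Kˣ) (r : Fin chevF4.nroots) (t : K) :
    TF4.C.G.torθ (TF4.par θ a b) * TF4.C.G.xu r t * (TF4.C.G.torθ (TF4.par θ a b))⁻¹ =
      TF4.C.G.xu r ((chr θ a b r : K) * t) :=
  TF4.C.G.torθ_conj_xu _ r t

/-- the torus map -/
noncomputable def torF : Kˣ × Kˣ →* GL chevF4.Idx K where
  toFun x := TF4.C.G.torθ (TF4.par θ x.1 x.2)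
  map_one' := by
    rw [← map_one (TF4.C.G.torθ (K := K))]
    congr 1
    funext j
    simp only [TF4.par, Prod.fst_one, Prod.snd_one, Pi.one_apply]
    split_ifs <;> simp
  map_mul' x y := by
    rw [← map_mul]
    congr 1
    funext j
    simp only [TF4.par, Prod.fst_mul, Prod.snd_mul, Pi.mul_apply]
    split_ifs <;> simp

theorem torF_apply (x : Kˣ × Kˣ) : torF θ x = TF4.C.G.torθ (TF4.par θ x.1 x.2) := rfl

theorem torF_inj : Function.Injective (torF θ) := by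
  refine (injective_iff_map_eq_one _).2 fun x hx => ?_
  rw [torF_apply] at hx
  have h := TF4.ker_one hx
  obtain ⟨-, -, v2, v3⟩ := TF4.par_vals θ x.1 x.2
  exact Prod.ext (v3.symm.trans (congrFun h _)) (v2.symm.trans (congrFun h _))

variable {m : ℕ} (hθ : ∀ x, θ x = x ^ 2 ^ m)
include hθ

theorem chr_eq (a b : Kˣ) (r : Fin chevF4.nroots) :
    chr θ a b r = a ^ ((2 : ℤ) ^ m * cart chevF4 (TF4.nd 0) r + cart chevF4 (TF4.nd 3) r) *
      b ^ ((2 : ℤ) ^ m * cart chevF4 (TF4.nd 1) r + cart chevF4 (TF4.nd 2) r) := by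
  have hu : (Finset.univ : Finset (Fin chevF4.rank)) = {TF4.nd 0, TF4.nd 1, TF4.nd 2, TF4.nd 3} := by
    decide +kernel
  have hd : (TF4.nd 0 : Fin chevF4.rank) ∉ ({TF4.nd 1, TF4.nd 2, TF4.nd 3} : Finset _) ∧
      (TF4.nd 1 : Fin chevF4.rank) ∉ ({TF4.nd 2, TF4.nd 3} : Finset _) ∧
      (TF4.nd 2 : Fin chevF4.rank) ∉ ({TF4.nd 3} : Finset _) := by decide +kernel
  have hmap : ∀ x : Kˣ, Units.map θ.toMonoidHom x = x ^ ((2 : ℤ) ^ m) := fun x => Units.ext (by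
    rw [show ((2 : ℤ) ^ m) = ((2 ^ m : ℕ) : ℤ) by push_cast; ring, zpow_natCast, Units.val_pow_eq_pow_val]
    exact hθ x)
  obtain ⟨v0, v1, v2, v3⟩ := TF4.par_vals θ a b
  rw [chr, hu, Finset.prod_insert hd.1, Finset.prod_insert hd.2.1, Finset.prod_insert hd.2.2,
    Finset.prod_singleton, v0, v1, v2, v3, hmap, hmap, ← zpow_mul, ← zpow_mul, zpow_add, zpow_add]
  simp only [mul_assoc, mul_left_comm, mul_comm]

include hsq

omit [CharP K 2] in
/-- the field relation on units -/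
theorem sq_exp (b : Kˣ) : b ^ (2 * ((2 : ℤ) ^ m * 2 ^ m)) = b := by
  refine Units.ext ?_
  rw [show (2 : ℤ) * (2 ^ m * 2 ^ m) = ((2 * (2 ^ m * 2 ^ m) : ℕ) : ℤ) by push_cast; ring, zpow_natCast,
    Units.val_pow_eq_pow_val]
  have h := congrArg θ (hsq (b : K))
  rw [RingEquiv.apply_symm_apply, map_pow, hθ, hθ] at h
  rw [mul_comm 2, pow_mul, pow_mul]
  exact h.symm

omit hθ hsq in
theorem eq_one_of_sq {b : Kˣ} (h : b ^ 2 = 1) : b = 1 := by
  refine Units.ext ?_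
  have h' := congrArg Units.val h
  rw [Units.val_pow_eq_pow_val, Units.val_one] at h'
  rcases sq_eq_one_iff.1 h' with h | h
  · exact h
  · rw [h, CharTwo.neg_eq]; rfl

/-- exponents of unit norm act without fixed points -/
theorem exp_faithful {b : Kˣ} {α β : ℤ} (hn : Tab.Unit2 (2 * α ^ 2 - β ^ 2))
    (h : b ^ (α + β * 2 ^ m) = 1) : b = 1 := by
  have h1 : b ^ (2 * α ^ 2 - β ^ 2 * (2 * ((2 : ℤ) ^ m * 2 ^ m))) = 1 := by
    rw [show 2 * α ^ 2 - β ^ 2 * (2 * ((2 : ℤ) ^ m * 2 ^ m)) = (α + β * 2 ^ m) * (2 * (α - β * 2 ^ m)) by ring,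
      zpow_mul, h, one_zpow]
  rw [zpow_sub, zpow_mul' b (β ^ 2), sq_exp θ hsq hθ, ← zpow_sub] at h1
  obtain ⟨i, hi⟩ : ∃ i, (2 * α ^ 2 - β ^ 2).natAbs = 2 ^ i := by
    simp only [Tab.Unit2, List.mem_cons, List.not_mem_nil, or_false] at hn
    rcases hn with e | e | e | e | e | e | e | e
    exacts [⟨0, e⟩, ⟨1, e⟩, ⟨2, e⟩, ⟨3, e⟩, ⟨4, e⟩, ⟨5, e⟩, ⟨6, e⟩, ⟨7, e⟩]
  have h2 : b ^ (2 ^ i : ℕ) = 1 := by
    rw [← hi]
    exact pow_natAbs_eq_one.2 h1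
  clear hi h1
  induction i with
  | zero => simpa using h2
  | succ i ih => exact ih (eq_one_of_sq (by rw [← pow_mul, ← pow_succ]; exact h2))

omit hsq hθ

/-- the central torus of the Suzuki Levi subgroup -/
noncomputable def zpar (m : ℕ) (b : Kˣ) : Kˣ × Kˣ := (b ^ ((2 : ℤ) - 2 * 2 ^ m), b)

include hθ hsq

/-- the exponent of the central torus at a root -/
theorem chr_z (b : Kˣ) (r : Fin chevF4.nroots) :
    chr θ (zpar m b).1 (zpar m b).2 r = b ^ (Tab.al r + Tab.be r * 2 ^ m) := by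
  rw [chr_eq θ hθ, zpar, ← zpow_mul, ← zpow_add]
  have key : ∀ c0 c1 c2 c3 : ℤ, b ^ ((2 - 2 * (2 : ℤ) ^ m) * (2 ^ m * c0 + c3) + (2 ^ m * c1 + c2)) =
      b ^ (c2 + 2 * c3 - c0 + (2 * c0 + c1 - 2 * c3) * 2 ^ m) := fun c0 c1 c2 c3 => by
    rw [show (2 - 2 * (2 : ℤ) ^ m) * (2 ^ m * c0 + c3) + (2 ^ m * c1 + c2) =
      (c2 + 2 * c3 - c0 + (2 * c0 + c1 - 2 * c3) * 2 ^ m) + (c0 - c0 * (2 * (2 ^ m * 2 ^ m))) by ring,
      zpow_add, zpow_sub, zpow_mul' b c0 _, sq_exp θ hsq hθ, mul_inv_cancel, mul_one]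
  exact key _ _ _ _

end CfsgLib.Lie.GaussSquare
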